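import Mathlib.AlgebraicGeometry.Morphisms.Affine
import Mathlib.AlgebraicGeometry.Morphisms.Flat

/-!
# Extending sections of affine morphisms across a closed subset of depth two
-/

set_option autoImplicit false

universe u

open CategoryTheory AlgebraicGeometry Opposite TopologicalSpace

noncomputable section

namespace Groth.L11.ThetaAff

variable {X : Scheme.{u}}

theorem ι_appTop_eq (U : X.Opens) :
    U.ι.appTop = X.presheaf.map (homOfLE (le_top : U ≤ ⊤)).op ≫ U.topIso.inv := by
  rw [Iso.eq_comp_inv]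
  simp only [Scheme.Opens.ι_appTop, Scheme.Opens.topIso, Functor.mapIso_hom]
  exact (X.presheaf.map_comp _ _).symm

theorem ι_appTop_bijective (U : X.Opens)
    (h : Function.Bijective (X.presheaf.map (homOfLE (le_top : U ≤ ⊤)).op)) :
    Function.Bijective U.ι.appTop := by
  rw [ι_appTop_eq]
  exact (ConcreteCategory.bijective_of_isIso U.topIso.inv).comp h

/-- A map into an affine scheme with prescribed global sections. -/
theorem exists_appTop_eq {Z : Scheme.{u}} [IsAffine X] [IsAffine Z] (ψ : Γ(Z, ⊤) ⟶ Γ(X, ⊤)) :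
    ∃ g : X ⟶ Z, g.appTop = ψ := by
  refine ⟨X.isoSpec.hom ≫ Spec.map ψ ≫ Z.isoSpec.inv, Spec.map_injective ?_⟩
  have := Scheme.isoSpec_hom_naturality (X.isoSpec.hom ≫ Spec.map ψ ≫ Z.isoSpec.inv)
  rw [← cancel_epi X.isoSpec.hom, this]
  simp

/-- Sections of an affine morphism agreeing on `U` are equal. -/
theorem eq_of_injective [IsAffine X] (U : X.Opens)
    (h : Function.Injective U.ι.appTop) {Z : Scheme.{u}} (π : Z ⟶ X) [IsAffineHom π]
    (g g' : X ⟶ Z) (e : U.ι ≫ g = U.ι ≫ g') : g = g' := by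
  haveI := isAffine_of_isAffineHom π
  refine ext_of_isAffine (ConcreteCategory.hom_ext _ _ fun x => h ?_)
  have := congrArg (fun t : (U : Scheme) ⟶ Z => t.appTop) e
  simp only [Scheme.Hom.comp_appTop] at this
  exact congrArg (fun t => t x) this

/-- Sections of an affine morphism over `U` extend uniquely. -/
theorem existsUnique_extend [IsAffine X] (U : X.Opens)
    (h : Function.Bijective U.ι.appTop) {Z : Scheme.{u}} (π : Z ⟶ X) [IsAffineHom π]
    (z : (U : Scheme) ⟶ Z) (hz : z ≫ π = U.ι) : ∃! g : X ⟶ Z, g ≫ π = 𝟙 X ∧ U.ι ≫ g = z := by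
  haveI := isAffine_of_isAffineHom π
  haveI : IsIso U.ι.appTop := (ConcreteCategory.isIso_iff_bijective _).2 h
  obtain ⟨g, hg⟩ := exists_appTop_eq (X := X) (Z := Z) (z.appTop ≫ inv U.ι.appTop)
  have e : U.ι ≫ g = z := ext_of_isAffine (by rw [Scheme.Hom.comp_appTop, hg]; simp)
  refine ⟨g, ⟨?_, e⟩, fun g' hg' => eq_of_injective U h.injective π _ _ (hg'.2.trans e.symm)⟩
  refine eq_of_injective U h.injective (𝟙 X) _ _ ?_
  rw [reassoc_of% e, hz, Category.comp_id]

theorem regular_mul {B : Type u} [CommRing B] {a b : B} (ha : ∀ y, a * y = 0 → y = 0)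
    (hb : ∀ y, b * y = 0 → y = 0) : ∀ y, a * b * y = 0 → y = 0 :=
  fun y h => hb y (ha _ (by rwa [← mul_assoc]))

theorem res_injective [IsAffine X] (f : Γ(X, ⊤)) (hf : ∀ y, f * y = 0 → y = 0) :
    Function.Injective (X.presheaf.map (homOfLE (X.basicOpen_le f)).op) :=
  IsLocalization.injective Γ(X, X.basicOpen f) (M := .powers f) (by
    rintro _ ⟨n, rfl⟩
    exact pow_mem (mem_nonZeroDivisors_iff.2 ⟨hf, fun y hy => hf y (by rwa [mul_comm])⟩) n)

theorem res_injective' [IsAffine X] (f : Γ(X, ⊤)) (hf : ∀ y, f * y = 0 → y = 0) (U : X.Opens)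
    (hU : X.basicOpen f ≤ U) : Function.Injective (X.presheaf.map (homOfLE (le_top : U ≤ ⊤)).op) := by
  intro x y e
  refine res_injective f hf ?_
  rw [show (homOfLE (X.basicOpen_le f)).op = (homOfLE (le_top : U ≤ ⊤)).op ≫ (homOfLE hU).op from rfl,
    Functor.map_comp, ConcreteCategory.comp_apply, ConcreteCategory.comp_apply]
  exact congrArg _ e

theorem dvd_pow_of_dvd_mul_pow {B : Type u} [CommRing B] {a b : B} (ha : ∀ y, a * y = 0 → y = 0)
    (hab : ∀ y, a ∣ b * y → a ∣ y) (m : ℕ) : ∀ (n : ℕ) (x : B), a ^ n ∣ b ^ m * x → a ^ n ∣ x := by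
  have h₁ : ∀ (k : ℕ) (x : B), a ∣ b ^ k * x → a ∣ x := by
    intro k
    induction k with
    | zero => simp
    | succ k ih => exact fun x hx => ih x (hab _ (by rwa [← mul_assoc, ← pow_succ']))
  intro n
  induction n with
  | zero => simp
  | succ n ih =>
    intro x hx
    obtain ⟨c, hc⟩ := ih x ((pow_dvd_pow a n.le_succ).trans hx)
    obtain ⟨d, hd⟩ := hx
    have e : a ^ n * (b ^ m * c - a * d) = 0 := by
      rw [hc, pow_succ] at hd
      linear_combination hd
    have : ∀ (k : ℕ) (y : B), a ^ k * y = 0 → y = 0 := by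
      intro k
      induction k with
      | zero => simp
      | succ k ih' => exact fun y hy => ih' y (ha _ (by linear_combination hy))
    obtain ⟨c', rfl⟩ := h₁ m c ⟨d, sub_eq_zero.1 (this n _ e)⟩
    exact ⟨c', by rw [hc, pow_succ]; ring⟩

/-- Hartogs for two functions. -/
theorem hartogs [IsAffine X] (a b : Γ(X, ⊤)) (ha : ∀ y, a * y = 0 → y = 0) (hb : ∀ y, b * y = 0 → y = 0)
    (hab : ∀ y, a ∣ b * y → a ∣ y) :
    Function.Bijective (X.presheaf.map (homOfLE (le_top : X.basicOpen a ⊔ X.basicOpen b ≤ ⊤)).op) := by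
  refine ⟨res_injective' a ha _ le_sup_left, fun s => ?_⟩
  let ia : X.basicOpen a ⟶ X.basicOpen a ⊔ X.basicOpen b := homOfLE le_sup_left
  let ib : X.basicOpen b ⟶ X.basicOpen a ⊔ X.basicOpen b := homOfLE le_sup_right
  obtain ⟨⟨x, _, n, rfl⟩, hx⟩ := IsLocalization.surj (.powers a) (X.presheaf.map ia.op s)
  obtain ⟨⟨y, _, m, rfl⟩, hy⟩ := IsLocalization.surj (.powers b) (X.presheaf.map ib.op s)
  change X.presheaf.map ia.op s * X.presheaf.map (homOfLE (X.basicOpen_le a)).op (a ^ n) =
    X.presheaf.map (homOfLE (X.basicOpen_le a)).op x at hx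
  change X.presheaf.map ib.op s * X.presheaf.map (homOfLE (X.basicOpen_le b)).op (b ^ m) =
    X.presheaf.map (homOfLE (X.basicOpen_le b)).op y at hy
  have key : x * b ^ m = y * a ^ n := by
    have hle₁ : X.basicOpen (a * b) ≤ X.basicOpen a := (X.basicOpen_mul a b).trans_le inf_le_left
    have hle₂ : X.basicOpen (a * b) ≤ X.basicOpen b := (X.basicOpen_mul a b).trans_le inf_le_right
    refine res_injective _ (regular_mul ha hb) ?_
    have ea := congrArg (X.presheaf.map (homOfLE hle₁).op) hx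
    have eb := congrArg (X.presheaf.map (homOfLE hle₂).op) hy
    simp only [map_mul, ← ConcreteCategory.comp_apply, ← Functor.map_comp, ← op_comp] at ea eb ⊢
    refine (congrArg (· * _) ea.symm).trans (Eq.trans ?_ (congrArg (· * _) eb))
    exact mul_right_comm _ _ _
  obtain ⟨c, rfl⟩ := dvd_pow_of_dvd_mul_pow ha hab m n x ⟨y, by linear_combination key⟩
  have hy' : y = b ^ m * c := by
    have : ∀ (k : ℕ) (z : Γ(X, ⊤)), a ^ k * z = 0 → z = 0 := by
      intro k
      induction k with
      | zero => simp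
      | succ k ih => exact fun z hz => ih z (ha _ (by linear_combination hz))
    exact sub_eq_zero.1 (this n _ (by linear_combination -key))
  subst hy'
  have unit_cancel : ∀ (f : Γ(X, ⊤)) (k : ℕ) (t : Γ(X, X.basicOpen f)),
      t * X.presheaf.map (homOfLE (X.basicOpen_le f)).op (f ^ k) =
        X.presheaf.map (homOfLE (X.basicOpen_le f)).op (f ^ k * c) →
      t = X.presheaf.map (homOfLE (X.basicOpen_le f)).op c := fun f k t h => by
    have hu : IsUnit (X.presheaf.map (homOfLE (X.basicOpen_le f)).op (f ^ k)) :=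
      IsLocalization.map_units Γ(X, X.basicOpen f) (⟨f ^ k, k, rfl⟩ : Submonoid.powers f)
    rw [map_mul, mul_comm t] at h
    exact hu.mul_left_cancel h
  refine ⟨c, TopCat.Sheaf.eq_of_locally_eq₂ X.sheaf ia ib le_rfl _ _ ?_ ?_⟩
  · refine Eq.trans ?_ (unit_cancel a n _ hx).symm
    exact (congrArg (fun t : Γ(X, ⊤) ⟶ Γ(X, X.basicOpen a) => t c)
      (X.presheaf.map_comp (homOfLE le_top).op ia.op)).symm
  · refine Eq.trans ?_ (unit_cancel b m _ hy).symm
    exact (congrArg (fun t : Γ(X, ⊤) ⟶ Γ(X, X.basicOpen b) => t c)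
      (X.presheaf.map_comp (homOfLE le_top).op ib.op)).symm

/-- Sections on a flat preimage are determined by the preimage of `D a`. -/
theorem injective_flat_preimage {Y : Scheme.{u}} (f : Y ⟶ X) [IsAffine X] [IsAffine Y] [Flat f] (a : Γ(X, ⊤))
    (ha : ∀ y, a * y = 0 → y = 0) (U : Y.Opens) (hU : f ⁻¹ᵁ X.basicOpen a ≤ U) :
    Function.Injective U.ι.appTop := by
  have hfl : f.appTop.hom.Flat := (HasRingHomProperty.iff_of_isAffine (P := @Flat)).1 ‹_›
  have ha' : ∀ y, f.appTop a * y = 0 → y = 0 := by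
    letI := f.appTop.hom.toAlgebra
    haveI : Module.Flat Γ(X, ⊤) Γ(Y, ⊤) := hfl
    have hr : IsSMulRegular Γ(X, ⊤) a := fun p q e => sub_eq_zero.1 (ha _ (by
      rw [mul_sub]; exact sub_eq_zero.2 e))
    have := IsSMulRegular.of_flat (S := Γ(Y, ⊤)) hr
    exact fun y hy => this (by simpa [RingHom.algebraMap_toAlgebra] using hy)
  have h := res_injective' (f.appTop a) ha' U ((Scheme.preimage_basicOpen_top f a).symm.trans_le hU)
  rw [ι_appTop_eq]
  exact (ConcreteCategory.bijective_of_isIso U.topIso.inv).injective.comp h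

end Groth.L11.ThetaAff
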