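import Groth.Agent.L11.ThetaAff.Quot
import Mathlib.RingTheory.Polynomial.Basic
import Mathlib.RingTheory.FinitePresentation
import Mathlib.GroupTheory.Finiteness

/-!
# Affine morphisms lift uniquely against the punctured quotient stacks of the line and of `st = π`
-/

set_option autoImplicit false
set_option backward.isDefEq.respectTransparency false
set_option backward.isDefEq.respectTransparency.types false

universe w' v' w v u

open CategoryTheory CategoryTheory.Limits MonoidalCategory CartesianMonoidalCategory MonObj AlgebraicGeometry Opposite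
open scoped TensorProduct Polynomial

noncomputable section

namespace Groth.L11.ThetaAff

variable (R : Type u) [CommRing R]

theorem isAffineHom_gm : IsAffineHom (ThetaS.Gm R).hom :=
  @isAffineHom_of_isAffine _ _ _ (isAffine_Spec _) (isAffine_Spec _)

theorem gm_hom_eq : (ThetaS.Gm R).hom = Spec.map (CommRingCat.ofHom (algebraMap R (ThetaS.Lau R))) := rfl

theorem flat_gm : Flat (ThetaS.Gm R).hom := by
  rw [gm_hom_eq, HasRingHomProperty.Spec_iff (P := @Flat)]
  exact RingHom.flat_algebraMap_iff.mpr inferInstance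

theorem lfp_gm [IsNoetherianRing R] : LocallyOfFinitePresentation (ThetaS.Gm R).hom := by
  rw [gm_hom_eq, HasRingHomProperty.Spec_iff (P := @LocallyOfFinitePresentation)]
  exact RingHom.finitePresentation_algebraMap.mpr (Algebra.FinitePresentation.of_finiteType.mp inferInstance)

variable {R}
variable {B : Type u} [CommRing B]

/-- The basic open of an element on the spectrum. -/
def bopen (a : B) : (Spec (CommRingCat.of B)).Opens :=
  (Spec (CommRingCat.of B)).basicOpen ((Scheme.ΓSpecIso (CommRingCat.of B)).inv a)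

theorem comap_bopen {C : Type u} [CommRing C] (f : B →+* C) (a : B) :
    Spec.map (CommRingCat.ofHom f) ⁻¹ᵁ bopen a = bopen (f a) := by
  rw [bopen, Scheme.preimage_basicOpen_top]
  exact congrArg (Spec (CommRingCat.of C)).basicOpen
    (congrArg (fun t : CommRingCat.of B ⟶ Γ(Spec (CommRingCat.of C), ⊤) => t a)
      (Scheme.ΓSpecIso_inv_naturality (CommRingCat.ofHom f))).symm

theorem bopen_mul_unit {a u : B} (hu : IsUnit u) : bopen (u * a) = bopen a := by
  rw [bopen, bopen, _root_.map_mul, Scheme.basicOpen_mul,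
    Scheme.basicOpen_of_isUnit _ (hu.map (Scheme.ΓSpecIso (CommRingCat.of B)).inv.hom), top_inf_eq]

theorem spec_hartogs {a b : B} (ha : ∀ y, a * y = 0 → y = 0) (hb : ∀ y, b * y = 0 → y = 0)
    (hab : ∀ y, a ∣ b * y → a ∣ y) : Function.Bijective (bopen a ⊔ bopen b).ι.appTop := by
  let e := (Scheme.ΓSpecIso (CommRingCat.of B)).commRingCatIsoToRingEquiv.symm
  refine ι_appTop_bijective _ (hartogs (e a) (e b) (fun y hy => ?_) (fun y hy => ?_) fun y hy => ?_) <;>
    obtain ⟨z, rfl⟩ := e.surjective y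
  · rw [← _root_.map_mul, map_eq_zero_iff e e.injective] at hy
    rw [ha z hy, map_zero]
  · rw [← _root_.map_mul, map_eq_zero_iff e e.injective] at hy
    rw [hb z hy, map_zero]
  · rw [← _root_.map_mul, map_dvd_iff] at hy
    exact (map_dvd_iff e).2 (hab z hy)

variable [Algebra R B] {A : Type u} [CommRing A] [Algebra R A]

variable (R A B) in
/-- The universal pair of points. -/
def univPair : CoactBr.sp R (A ⊗[R] B) ⟶ CoactBr.sp R A ⊗ CoactBr.sp R B :=
  lift (CoactBr.pt Algebra.TensorProduct.includeLeft) (CoactBr.pt Algebra.TensorProduct.includeRight)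

theorem isIso_univPair : IsIso (univPair R B A) := by
  letI : (algSpec (CommRingCat.of R)).Braided := braidedAlgSpec
  have e := CoactBr.lift_pt_pt (R := R) (B := A) (K := A ⊗[R] B) (Algebra.TensorProduct.includeLeft)
    (Algebra.TensorProduct.includeRight : B →ₐ[R] A ⊗[R] B)
  have : Algebra.TensorProduct.lift (Algebra.TensorProduct.includeLeft : A →ₐ[R] A ⊗[R] B)
      (Algebra.TensorProduct.includeRight : B →ₐ[R] A ⊗[R] B) (fun _ _ => .all _ _) = AlgHom.id R _ := by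
    ext <;> simp
  rw [this, CoactBr.pt_id] at e
  haveI : IsIso (Functor.LaxMonoidal.μ (algSpec (CommRingCat.of R)) (op (CommAlgCat.of R A)) (op (CommAlgCat.of R B))) :=
    inferInstance
  exact IsIso.of_isIso_fac_right (h := 𝟙 _) e

theorem preimage_eq_of_isIso {X Y : Scheme.{u}} (e : X ⟶ Y) [IsIso e] {U U' : Y.Opens}
    (h : e ⁻¹ᵁ U = e ⁻¹ᵁ U') : U = U' := by
  ext y
  obtain ⟨x, rfl⟩ := e.surjective y
  exact SetLike.ext_iff.1 h x

/-- An action scaling `a` by a unit preserves `D a`. -/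
theorem invariant_bopen (aX : AlgGrp.Action (ThetaS.Gm R) (CoactBr.sp R B)) (ψ : B →ₐ[R] ThetaS.Lau R ⊗[R] B)
    (hψ : univPair R B (ThetaS.Lau R) ≫ aX.act = CoactBr.pt ψ) (a : B) (n : ℤ)
    (ha : ψ a = Algebra.TensorProduct.includeLeft (S := R) (ThetaS.zPow R n) * (1 ⊗ₜ[R] a)) :
    aX.act.left ⁻¹ᵁ bopen a = (snd (ThetaS.Gm R) (CoactBr.sp R B)).left ⁻¹ᵁ bopen a := by
  haveI := isIso_univPair (R := R) (B := B) (A := ThetaS.Lau R)
  haveI : IsIso (univPair R B (ThetaS.Lau R)).left := inferInstanceAs (IsIso ((Over.forget _).map (univPair R B (ThetaS.Lau R))))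
  have hs : univPair R B (ThetaS.Lau R) ≫ snd (ThetaS.Gm R) (CoactBr.sp R B) =
      CoactBr.pt Algebra.TensorProduct.includeRight := lift_snd _ _
  refine preimage_eq_of_isIso (univPair R B (ThetaS.Lau R)).left ?_
  rw [← Scheme.Hom.comp_preimage, ← Scheme.Hom.comp_preimage, ← Over.comp_left, ← Over.comp_left, hψ, hs,
    CoactBr.pt_left, CoactBr.pt_left, comap_bopen, comap_bopen]
  refine (congrArg bopen ha).trans (bopen_mul_unit ?_)
  refine IsUnit.map Algebra.TensorProduct.includeLeft (isUnit_iff_exists_inv.2 ⟨ThetaS.zPow R (-n), ?_⟩)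
  rw [ThetaS.zPow_mul, add_neg_cancel, ThetaS.zPow_zero]

theorem isPullback_left {S' : Scheme.{u}} (Y Z : Over S') :
    IsPullback (fst Y Z).left (snd Y Z).left Y.hom Z.hom := by
  have h := (AlgSt.isPullback_fst_snd Y Z).map (Over.forget S')
  have e : ∀ W : Over S', (toUnit W).left = W.hom := fun W =>
    (Category.comp_id _).symm.trans (Over.w (toUnit W))
  rw [← e Y, ← e Z]
  exact h

section Lift

variable [IsNoetherianRing R] {S : Scheme.{u}} {𝒳 : BasedCategory.{v, w} (Over S)} {𝒴 : BasedCategory.{v', w'} (Over S)}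
  {f : 𝒳 ⥤ᵇ 𝒴}

/-- Unique lifting against the complement of the common zeroes of two weight vectors. -/
theorem liftsUniquely_quot (h : Spec (CommRingCat.of R) ⟶ S) (aX : AlgGrp.Action (ThetaS.Gm R) (CoactBr.sp R B))
    {a b : B} (ha : ∀ y, a * y = 0 → y = 0) (hb : ∀ y, b * y = 0 → y = 0) (hab : ∀ y, a ∣ b * y → a ∣ y)
    (ia : aX.act.left ⁻¹ᵁ bopen a = (snd (ThetaS.Gm R) (CoactBr.sp R B)).left ⁻¹ᵁ bopen a)
    (ib : aX.act.left ⁻¹ᵁ bopen b = (snd (ThetaS.Gm R) (CoactBr.sp R B)).left ⁻¹ᵁ bopen b)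
    {Q : (AlgSt.QuotSt Scheme.fppfPrecoverage (ThetaS.Gm R) aX).obj → Prop}
    (hQ : ∀ A, Q A ↔ A.φ.left ⁻¹ᵁ bopen a ⊔ A.φ.left ⁻¹ᵁ bopen b = ⊤)
    (h𝒳 : FibCat.IsFibGrpd 𝒳.p) (h𝒴 : FibCat.IsFibGrpd 𝒴.p)
    (hf : AlgSt.RepByAlgSpWith (AlgSp.RepWith @IsAffineHom) f) :
    LiftSq.LiftsUniquely
      (AlgSt.subIncl (ThetaS.overS h (AlgSt.QuotSt Scheme.fppfPrecoverage (ThetaS.Gm R) aX)) Q) f := by
  haveI := isAffineHom_gm R
  haveI := flat_gm R
  haveI := lfp_gm R
  have hX : IsAffine (CoactBr.sp R B).left := isAffine_Spec _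
  have sq := isPullback_left (ThetaS.Gm R) (CoactBr.sp R B)
  haveI : IsAffineHom (snd (ThetaS.Gm R) (CoactBr.sp R B)).left := MorphismProperty.of_isPullback sq inferInstance
  haveI : Flat (snd (ThetaS.Gm R) (CoactBr.sp R B)).left := MorphismProperty.of_isPullback sq inferInstance
  haveI : IsAffine (ThetaS.Gm R ⊗ CoactBr.sp R B).left := isAffine_of_isAffineHom (snd (ThetaS.Gm R) _).left
  refine liftsUniquely (quotSys h aX (bopen a ⊔ bopen b) (fun A => by rw [hQ, Scheme.Hom.preimage_sup]) ?_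
    (spec_hartogs ha hb hab) ?_) h𝒳 h𝒴 hf
  · rw [Scheme.Hom.preimage_sup, Scheme.Hom.preimage_sup, ia, ib]
  · let e := (Scheme.ΓSpecIso (CommRingCat.of B)).commRingCatIsoToRingEquiv.symm
    refine injective_flat_preimage (snd (ThetaS.Gm R) (CoactBr.sp R B)).left (e a) (fun y hy => ?_) _
      (fun x hx => Or.inl hx)
    obtain ⟨z, rfl⟩ := e.surjective y
    rw [ha z (e.injective ((_root_.map_mul e a z).trans (hy.trans (map_zero e).symm)))]
    exact map_zero e

/-- Affine morphisms are Θ-reductive. -/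
theorem thetaReductive [IsDomain R] {ϖ : R} (hϖ : ϖ ≠ 0) (h : Spec (CommRingCat.of R) ⟶ S)
    (h𝒳 : FibCat.IsFibGrpd 𝒳.p) (h𝒴 : FibCat.IsFibGrpd 𝒴.p)
    (hf : AlgSt.RepByAlgSpWith (AlgSp.RepWith @IsAffineHom) f) :
    LiftSq.LiftsUniquely (ThetaS.thetaIncl Scheme.fppfPrecoverage R ϖ h) f := by
  let ψ : R[X] →ₐ[R] ThetaS.Lau R ⊗[R] R[X] := ThetaS.linePt
    (Algebra.TensorProduct.includeLeft (S := R) (ThetaS.zPow R 1) * (1 ⊗ₜ[R] Polynomial.X))
  have hψ : univPair R R[X] (ThetaS.Lau R) ≫ (ThetaS.lineAction R).act = CoactBr.pt ψ := by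
    rw [univPair, show (Algebra.TensorProduct.includeRight : R[X] →ₐ[R] ThetaS.Lau R ⊗[R] R[X]) =
      ThetaS.linePt (1 ⊗ₜ[R] Polynomial.X) by apply Polynomial.algHom_ext; simp]
    exact ThetaS.lineAction_pt _ _
  refine liftsUniquely_quot h (ThetaS.lineAction R) (a := Polynomial.X) (b := Polynomial.C ϖ)
    (fun y hy => (mul_eq_zero.1 hy).resolve_left Polynomial.X_ne_zero)
    (fun y hy => (mul_eq_zero.1 hy).resolve_left (by simpa using hϖ))
    (fun y hy => (Polynomial.prime_X.dvd_or_dvd hy).resolve_left fun hd => by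
      rw [Polynomial.X_dvd_iff, Polynomial.coeff_C_zero] at hd
      exact hϖ hd)
    (invariant_bopen _ ψ hψ _ 1 (by simp [ψ])) (invariant_bopen _ ψ hψ _ 0 (by
      rw [ThetaS.zPow_zero, _root_.map_one, _root_.one_mul, ← Polynomial.algebraMap_eq, AlgHom.commutes]
      exact ((Algebra.TensorProduct.includeRight : R[X] →ₐ[R] ThetaS.Lau R ⊗[R] R[X]).commutes ϖ).symm))
    (fun A => (iff_of_eq (congrArg (· = ⊤) (congrArg₂ (· ⊔ ·) (Scheme.preimage_basicOpen_top A.φ.left _)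
      (Scheme.preimage_basicOpen_top A.φ.left _)))).symm) h𝒳 h𝒴 hf

section STRing

open MvPolynomial

variable [IsDomain R] {π : R}

/-- Setting `s = 0`. -/
def setZero : MvPolynomial (Fin 2) R →ₐ[R] MvPolynomial (Fin 2) R := aeval ![0, X 1]

theorem dvd_sub_setZero (p : MvPolynomial (Fin 2) R) : (X 0 : MvPolynomial (Fin 2) R) ∣ p - setZero p := by
  induction p using MvPolynomial.induction_on with
  | C r => simp [setZero]
  | add p q hp hq => rw [map_add, add_sub_add_comm]; exact dvd_add hp hq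
  | mul_X p i hp =>
    fin_cases i
    · simp [setZero]
    · simpa [setZero, ← sub_mul] using hp.mul_right (X 1)

theorem not_X_dvd_C (hπ : π ≠ 0) (i : Fin 2) : ¬ (X i : MvPolynomial (Fin 2) R) ∣ C π := fun ⟨c, hc⟩ =>
  hπ (by simpa using congrArg (MvPolynomial.eval fun _ => 0) hc)

theorem not_X_dvd_rel (hπ : π ≠ 0) (i : Fin 2) : ¬ (X i : MvPolynomial (Fin 2) R) ∣ X 0 * X 1 - C π :=
  fun ⟨c, hc⟩ => hπ (by simpa using congrArg (MvPolynomial.eval fun _ => 0) hc)

theorem X_regular (hπ : π ≠ 0) (i : Fin 2) (y : ThetaS.STRing R π)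
    (h : Ideal.Quotient.mk _ (X i) * y = 0) : y = 0 := by
  obtain ⟨f, rfl⟩ := Ideal.Quotient.mk_surjective y
  rw [← map_mul, Ideal.Quotient.eq_zero_iff_dvd] at h
  obtain ⟨g, hg⟩ := h
  obtain ⟨g', rfl⟩ := ((MvPolynomial.X_prime (i := i)).dvd_or_dvd ⟨f, hg.symm⟩).resolve_left (not_X_dvd_rel hπ i)
  rw [Ideal.Quotient.eq_zero_iff_dvd]
  exact ⟨g', mul_left_cancel₀ (X_ne_zero i) (by linear_combination hg)⟩

theorem s_dvd (hπ : π ≠ 0) (y : ThetaS.STRing R π) (h : ThetaS.sFn R π ∣ ThetaS.tFn R π * y) :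
    ThetaS.sFn R π ∣ y := by
  obtain ⟨f, rfl⟩ := Ideal.Quotient.mk_surjective y
  obtain ⟨z, hz⟩ := h
  obtain ⟨z, rfl⟩ := Ideal.Quotient.mk_surjective z
  rw [← map_mul, ← map_mul, ← sub_eq_zero, ← map_sub, Ideal.Quotient.eq_zero_iff_dvd] at hz
  obtain ⟨g, hg⟩ := hz
  have e := congrArg (setZero (R := R)) hg
  simp only [map_sub, map_mul, setZero, aeval_X, algHom_C, Matrix.cons_val_zero, Matrix.cons_val_one,
    zero_mul, sub_zero, zero_sub, MvPolynomial.algebraMap_eq] at e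
  rw [← setZero] at e
  obtain ⟨g₁, hg₁⟩ := ((MvPolynomial.X_prime (i := (1 : Fin 2))).dvd_or_dvd
    (⟨-setZero f, by linear_combination e⟩ :
      (X 1 : MvPolynomial (Fin 2) R) ∣ C π * setZero g)).resolve_left (not_X_dvd_C hπ 1)
  rw [hg₁] at e
  have hf : setZero f = -C π * g₁ := mul_left_cancel₀ (X_ne_zero (1 : Fin 2)) (by linear_combination e)
  obtain ⟨q, hq⟩ := dvd_sub_setZero f
  rw [hf] at hq
  refine ⟨Ideal.Quotient.mk _ (q - X 1 * g₁), ?_⟩
  rw [← map_mul, ← sub_eq_zero, ← map_sub, Ideal.Quotient.eq_zero_iff_dvd]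
  exact ⟨g₁, by linear_combination hq⟩

end STRing

omit [IsNoetherianRing R] in
theorem stAction_point {π : R} {K : Type u} [CommRing K] [Algebra R K] (g : ThetaS.Lau R →ₐ[R] K)
    (i : ThetaS.STRing R π →ₐ[R] K) :
    ∃ ψ : ThetaS.STRing R π →ₐ[R] K, lift (CoactBr.pt g) (CoactBr.pt i) ≫ (ThetaS.stAction R π).act = CoactBr.pt ψ ∧
      ψ (ThetaS.sFn R π) = g (ThetaS.zPow R 1) * i (ThetaS.sFn R π) ∧
      ψ (ThetaS.tFn R π) = g (ThetaS.zPow R (-1)) * i (ThetaS.tFn R π) := by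
  have hab : i (ThetaS.sFn R π) * i (ThetaS.tFn R π) = algebraMap R K π := by
    rw [← _root_.map_mul, ThetaS.sFn_mul_tFn, AlgHom.commutes]
  have hi : i = ThetaS.stPt (i (ThetaS.sFn R π)) (i (ThetaS.tFn R π)) hab :=
    ThetaS.stRing_algHom_ext (ThetaS.stPt_sFn _ _ hab).symm (ThetaS.stPt_tFn _ _ hab).symm
  have key := ThetaS.stAction_pt g (i (ThetaS.sFn R π)) (i (ThetaS.tFn R π)) hab
  rw [← hi] at key
  exact ⟨_, key, ThetaS.stPt_sFn _ _ _, ThetaS.stPt_tFn _ _ _⟩

/-- Affine morphisms are S-complete. -/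
theorem sComplete [IsDomain R] {π : R} (hπ : π ≠ 0) (h : Spec (CommRingCat.of R) ⟶ S)
    (h𝒳 : FibCat.IsFibGrpd 𝒳.p) (h𝒴 : FibCat.IsFibGrpd 𝒴.p)
    (hf : AlgSt.RepByAlgSpWith (AlgSp.RepWith @IsAffineHom) f) :
    LiftSq.LiftsUniquely (ThetaS.stIncl Scheme.fppfPrecoverage R π h) f := by
  obtain ⟨ψ, hψ, hs, ht⟩ := stAction_point (π := π) (K := ThetaS.Lau R ⊗[R] ThetaS.STRing R π)
    (Algebra.TensorProduct.includeLeft (S := R) : ThetaS.Lau R →ₐ[R] ThetaS.Lau R ⊗[R] ThetaS.STRing R π)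
    Algebra.TensorProduct.includeRight
  exact liftsUniquely_quot h (ThetaS.stAction R π) (a := ThetaS.sFn R π) (b := ThetaS.tFn R π)
    (X_regular hπ 0) (X_regular hπ 1) (s_dvd hπ)
    (invariant_bopen _ ψ hψ _ 1 hs) (invariant_bopen _ ψ hψ _ (-1) ht)
    (fun A => (iff_of_eq (congrArg (· = ⊤) (congrArg₂ (· ⊔ ·) (Scheme.preimage_basicOpen_top A.φ.left _)
      (Scheme.preimage_basicOpen_top A.φ.left _)))).symm) h𝒳 h𝒴 hf

end Lift

end Groth.L11.ThetaAff
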