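import Groth.Agent.L11.ThetaAff.Points
import Groth.Agent.L24.Boot.QuotFlat
import Groth.Agent.L26.Theta.Lift
import Groth.Prelude.Def_AlgSt3

/-!
# Affine morphisms lift uniquely against a big open subcategory

`𝒯` has a "universal" object `A₀` every object maps to after a covering, `Q` is a full subcategory such that maps from
the base of `A₀` (and of the objects of pairs of maps to `A₀`) into affine schemes are determined on `Q`.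
-/

set_option autoImplicit false
set_option backward.isDefEq.respectTransparency false
set_option backward.isDefEq.respectTransparency.types false

universe w' v' w v w₁ v₁ u

open CategoryTheory CategoryTheory.Limits AlgebraicGeometry Opposite
open Groth.L24.St

noncomputable section

namespace Groth.L11.ThetaAff

variable {S : Scheme.{u}}

/-- The hypotheses on the pair. -/
structure Sys (𝒯 : BasedCategory.{v₁, w₁} (Over S)) (Q : 𝒯.obj → Prop) where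
  h : FibCat.IsFibGrpd 𝒯.p
  down : ∀ {B A : 𝒯.obj}, (B ⟶ A) → Q A → Q B
  A₀ : 𝒯.obj
  B₀ : 𝒯.obj
  i₀ : B₀ ⟶ A₀
  hB₀ : Q B₀
  fac : ∀ {B : 𝒯.obj} (v : B ⟶ A₀), Q B → ∃ w : B ⟶ B₀, w ≫ i₀ = v
  ext₀ : ∀ (Z : Over S) (π : Z ⟶ 𝒯.p.obj A₀), IsAffineHom π.left → ∀ z : 𝒯.p.obj B₀ ⟶ Z,
    z ≫ π = 𝒯.p.map i₀ → ∃! g : 𝒯.p.obj A₀ ⟶ Z, g ≫ π = 𝟙 _ ∧ 𝒯.p.map i₀ ≫ g = z
  cover : ∀ A : 𝒯.obj, ∃ (B : 𝒯.obj) (t : B ⟶ A) (_ : B ⟶ A₀), Epi ((AlgSp.yon S).map (𝒯.p.map t))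
  pair : ∀ {B : 𝒯.obj} (v₁ v₂ : B ⟶ A₀), ∃ (A₁ : 𝒯.obj) (w : B ⟶ A₁) (c₁ c₂ : A₁ ⟶ A₀),
    w ≫ c₁ = v₁ ∧ w ≫ c₂ = v₂ ∧ ∃ (B₁ : 𝒯.obj) (i : B₁ ⟶ A₁), Q B₁ ∧
      ∀ (Z : Over S) (π : Z ⟶ 𝒯.p.obj A₁), IsAffineHom π.left → ∀ g g' : 𝒯.p.obj A₁ ⟶ Z,
        g ≫ π = 𝟙 _ → g' ≫ π = 𝟙 _ → 𝒯.p.map i ≫ g = 𝒯.p.map i ≫ g' → g = g'

variable {𝒯 : BasedCategory.{v₁, w₁} (Over S)} {Q : 𝒯.obj → Prop}
  {𝒳 : BasedCategory.{v, w} (Over S)} {𝒴 : BasedCategory.{v', w'} (Over S)} {f : 𝒳 ⥤ᵇ 𝒴}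
  (bot : 𝒯 ⥤ᵇ 𝒴)

/-- An object of `𝒳` over the image of `A`. -/
structure Sec (f : 𝒳 ⥤ᵇ 𝒴) (A : 𝒯.obj) where
  x : 𝒳.obj
  θ : bot.obj A ≅ f.obj x
  hθ : OverId θ.hom

variable {bot}

/-- Sections related over a morphism. -/
def Rel {A' A : 𝒯.obj} (u : A' ⟶ A) (σ' : Sec bot f A') (σ : Sec bot f A) : Prop :=
  ∃ m : σ'.x ⟶ σ.x, σ'.θ.hom ≫ f.map m = bot.map u ≫ σ.θ.hom

theorem Rel.id {A : 𝒯.obj} (σ : Sec bot f A) : Rel (𝟙 A) σ σ :=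
  ⟨𝟙 _, by rw [show f.map (𝟙 σ.x) = 𝟙 _ from f.toFunctor.map_id _,
    show bot.map (𝟙 A) = 𝟙 _ from bot.toFunctor.map_id _, Category.comp_id, Category.id_comp]⟩

theorem Rel.comp {A'' A' A : 𝒯.obj} {w : A'' ⟶ A'} {u : A' ⟶ A} {σ'' : Sec bot f A''} {σ' : Sec bot f A'}
    {σ : Sec bot f A} (h₁ : Rel w σ'' σ') (h₂ : Rel u σ' σ) : Rel (w ≫ u) σ'' σ := by
  obtain ⟨m₁, e₁⟩ := h₁
  obtain ⟨m₂, e₂⟩ := h₂
  refine ⟨m₁ ≫ m₂, ?_⟩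
  rw [show f.map (m₁ ≫ m₂) = f.map m₁ ≫ f.map m₂ from f.toFunctor.map_comp _ _,
    show bot.map (w ≫ u) = bot.map w ≫ bot.map u from bot.toFunctor.map_comp _ _, reassoc_of% e₁, e₂,
    Category.assoc]

section Grpd

variable (h𝒳 : FibCat.IsFibGrpd 𝒳.p) (h𝒴 : FibCat.IsFibGrpd 𝒴.p)

include h𝒳 h𝒴 in
theorem exists_pull {A' A : 𝒯.obj} (u : A' ⟶ A) (σ : Sec bot f A) : ∃ σ' : Sec bot f A', Rel u σ' σ := by
  obtain ⟨e, he⟩ := σ.hθ.eq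
  obtain ⟨x', hx', ψ, hψ⟩ := exists_over h𝒳 ((f.w_obj σ.x).symm.trans e.symm) (𝒴.p.map (bot.map u))
  obtain ⟨k, hk, hc⟩ := exists_iso_factor h𝒴 (bot.map u ≫ σ.θ.hom) (f.map ψ)
    (hx'.symm.trans (f.w_obj x').symm) (by simp [p_map_map f, hψ, he])
  exact ⟨⟨x', k, hk⟩, ψ, hc⟩

include h𝒳 h𝒴 in
theorem Rel.fac {A'' A' A : 𝒯.obj} {w : A'' ⟶ A'} {u : A' ⟶ A} {σ'' : Sec bot f A''} {σ' : Sec bot f A'}
    {σ : Sec bot f A} (h₁ : Rel (w ≫ u) σ'' σ) (h₂ : Rel u σ' σ) : Rel w σ'' σ' := by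
  obtain ⟨m₁, e₁⟩ := h₁
  obtain ⟨m₂, e₂⟩ := h₂
  rw [show bot.map (w ≫ u) = bot.map w ≫ bot.map u from bot.toFunctor.map_comp _ _, Category.assoc, ← e₂] at e₁
  have q₁ := congrArg 𝒴.p.map e₁
  obtain ⟨a, ha⟩ := σ''.hθ.eq
  obtain ⟨b, hb⟩ := σ'.hθ.eq
  simp only [Functor.map_comp, p_map_map f, ha, hb] at q₁
  obtain ⟨χ, hχ, hc⟩ := exists_factor h𝒳 m₁ m₂
    (eqToHom ((f.w_obj _).symm.trans a.symm) ≫ 𝒴.p.map (bot.map w) ≫ eqToHom (b.trans (f.w_obj _))) (by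
      have q₂ := congrArg (fun t => eqToHom ((f.w_obj σ''.x).symm.trans a.symm) ≫ t ≫ eqToHom (f.w_obj σ.x)) q₁
      simpa using q₂.symm)
  refine ⟨χ, ext_of_comp_eq h𝒴 (f.map m₂) ?_ ?_⟩
  · simp [p_map_map f, ha, hb, hχ]
  · rw [Category.assoc, ← show f.map (χ ≫ m₂) = f.map χ ≫ f.map m₂ from f.toFunctor.map_comp _ _, hc,
      Category.assoc, e₁]

include h𝒳 h𝒴 in
theorem Rel.symm {A : 𝒯.obj} {σ σ' : Sec bot f A} (h : Rel (𝟙 A) σ σ') : Rel (𝟙 A) σ' σ :=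
  Rel.fac h𝒳 h𝒴 ((Category.id_comp (𝟙 A)).symm ▸ Rel.id σ') h

include h𝒳 h𝒴 in
theorem Rel.uniq {A' A : 𝒯.obj} {u : A' ⟶ A} {σ₁ σ₂ : Sec bot f A'} {σ : Sec bot f A}
    (h₁ : Rel u σ₁ σ) (h₂ : Rel u σ₂ σ) : Rel (𝟙 A') σ₁ σ₂ :=
  Rel.fac h𝒳 h𝒴 ((Category.id_comp u).symm ▸ h₁) h₂

theorem Rel.of_eq {A' A : 𝒯.obj} {u u' : A' ⟶ A} {σ₁ σ₂ : Sec bot f A'} {σ : Sec bot f A}
    (h₁ : Rel (𝟙 A') σ₁ σ₂) (h₂ : Rel u σ₂ σ) (e : u = u') : Rel u' σ₁ σ :=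
  e ▸ (Category.id_comp u ▸ h₁.comp h₂)

variable (hf : AlgSt.RepByAlgSpWith (AlgSp.RepWith @IsAffineHom) f)

include h𝒳 h𝒴 hf in
/-- Sections over objects mapping to `A` are points of an affine scheme. -/
theorem exists_pA (bot : 𝒯 ⥤ᵇ 𝒴) (A : 𝒯.obj) :
    ∃ (Z : Over S) (π : Z ⟶ 𝒯.p.obj A) (P : ∀ {B : 𝒯.obj}, (B ⟶ A) → Sec bot f B → (𝒯.p.obj B ⟶ Z)),
      IsAffineHom π.left ∧
      (∀ {B : 𝒯.obj} (u : B ⟶ A) (σ : Sec bot f B), P u σ ≫ π = 𝒯.p.map u) ∧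
      (∀ {B' B : 𝒯.obj} (w : B' ⟶ B) (u : B ⟶ A) (σ' : Sec bot f B') (σ : Sec bot f B), Rel w σ' σ →
        P (w ≫ u) σ' = 𝒯.p.map w ≫ P u σ) ∧
      (∀ {B : 𝒯.obj} (u : B ⟶ A) (σ σ' : Sec bot f B), P u σ = P u σ' → Rel (𝟙 B) σ σ') ∧
      (∀ {B : 𝒯.obj} (u : B ⟶ A) (z : 𝒯.p.obj B ⟶ Z), z ≫ π = 𝒯.p.map u → ∃ σ, P u σ = z) := by
  obtain ⟨Z, π, pt, hπ, hover, hnat, hinj, hsurj⟩ := exists_pts hf h𝒳 h𝒴 (bot.obj A) (bot.w_obj A)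
  refine ⟨Z, π, fun {B} u σ => eqToHom (bot.w_obj B).symm ≫ pt (bot.map u) σ.x σ.θ σ.hθ, hπ, ?_, ?_, ?_, ?_⟩
  · intro B u σ
    rw [Category.assoc, hover, p_map_map bot]
    simp
  · rintro B' B w u σ' σ ⟨m, hm⟩
    have e := hnat (bot.map w) (bot.map u) σ'.x σ.x σ'.θ σ.θ σ'.hθ σ.hθ m hm
    simp only [← show bot.map (w ≫ u) = bot.map w ≫ bot.map u from bot.toFunctor.map_comp _ _] at e
    dsimp only
    rw [e, p_map_map bot]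
    simp
  · intro B u σ σ' h
    obtain ⟨m, -, hm⟩ := hinj (bot.map u) σ.x σ'.x σ.θ σ'.θ σ.hθ σ'.hθ ((cancel_epi _).1 h)
    exact ⟨m.hom, by rw [hm, show bot.map (𝟙 B) = 𝟙 _ from bot.toFunctor.map_id _, Category.id_comp]⟩
  · intro B u z hz
    obtain ⟨x, θ, hθ, h⟩ := hsurj (bot.map u) (eqToHom (bot.w_obj B) ≫ z)
      (by rw [Category.assoc, hz, p_map_map bot]; simp)
    exact ⟨⟨x, θ, hθ⟩, by simp [h]⟩

end Grpd

section Main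

variable (D : Sys 𝒯 Q) {sq : LiftSq.Sq (AlgSt.subIncl 𝒯 Q) f}
  (h𝒳 : FibCat.IsFibGrpd 𝒳.p) (h𝒴 : FibCat.IsFibGrpd 𝒴.p)
  (hf : AlgSt.RepByAlgSpWith (AlgSp.RepWith @IsAffineHom) f)

variable (sq) in
/-- The given section on an object of `Q`. -/
def topSec (B : 𝒯.obj) (hB : Q B) : Sec sq.bot f B where
  x := sq.top.obj ⟨B, hB⟩
  θ := appIso sq.iso ⟨B, hB⟩
  hθ := overId_app sq.iso.hom _

theorem topSec_rel {B' B : 𝒯.obj} (w : B' ⟶ B) (hB' : Q B') (hB : Q B) :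
    Rel w (topSec sq B' hB') (topSec sq B hB) := by
  let w' : (⟨B', hB'⟩ : (AlgSt.fullSub 𝒯 Q).obj) ⟶ ⟨B, hB⟩ := ObjectProperty.homMk w
  exact ⟨sq.top.map w', (appIso_naturality sq.iso w').symm⟩

include D h𝒳 h𝒴 hf in
theorem exists_σ₀ : ∃ σ₀ : Sec sq.bot f D.A₀,
    ∀ (B : 𝒯.obj) (hB : Q B) (v : B ⟶ D.A₀), Rel v (topSec sq B hB) σ₀ := by
  obtain ⟨Z, π, P, hπ, hover, hnat, hinj, hsurj⟩ := exists_pA h𝒳 h𝒴 hf sq.bot D.A₀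
  obtain ⟨g, ⟨hgπ, hg⟩, -⟩ := D.ext₀ Z π hπ (P D.i₀ (topSec sq D.B₀ D.hB₀)) (hover _ _)
  obtain ⟨σ₀, hσ₀⟩ := hsurj (𝟙 _) g (hgπ.trans (𝒯.p.map_id _).symm)
  obtain ⟨σ', hσ'⟩ := exists_pull h𝒳 h𝒴 D.i₀ σ₀
  have e := hnat D.i₀ (𝟙 _) σ' σ₀ hσ'
  rw [Category.comp_id, hσ₀, hg] at e
  refine ⟨σ₀, fun B hB v => ?_⟩
  obtain ⟨w, hw⟩ := D.fac v hB
  exact hw ▸ (topSec_rel w hB D.hB₀).comp (Rel.of_eq (hinj _ _ _ e.symm) hσ' rfl)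

variable {σ₀ : Sec sq.bot f D.A₀} (hσ₀ : ∀ (B : 𝒯.obj) (hB : Q B) (v : B ⟶ D.A₀), Rel v (topSec sq B hB) σ₀)

include h𝒳 h𝒴 hf hσ₀ in
theorem agree {B : 𝒯.obj} {v₁ v₂ : B ⟶ D.A₀} {σ₁ σ₂ : Sec sq.bot f B} (h₁ : Rel v₁ σ₁ σ₀) (h₂ : Rel v₂ σ₂ σ₀) :
    Rel (𝟙 B) σ₁ σ₂ := by
  obtain ⟨A₁, w, c₁, c₂, hw₁, hw₂, B₁, i, hB₁, hext⟩ := D.pair v₁ v₂
  obtain ⟨τ₁, hτ₁⟩ := exists_pull h𝒳 h𝒴 c₁ σ₀
  obtain ⟨τ₂, hτ₂⟩ := exists_pull h𝒳 h𝒴 c₂ σ₀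
  obtain ⟨Z, π, P, hπ, hover, hnat, hinj, hsurj⟩ := exists_pA h𝒳 h𝒴 hf sq.bot A₁
  have e : P (𝟙 A₁) τ₁ = P (𝟙 A₁) τ₂ := by
    refine hext Z π hπ _ _ ((hover _ _).trans (𝒯.p.map_id _)) ((hover _ _).trans (𝒯.p.map_id _)) ?_
    rw [← hnat i _ (topSec sq B₁ hB₁) τ₁ (Rel.fac h𝒳 h𝒴 (hσ₀ B₁ hB₁ _) hτ₁),
      ← hnat i _ (topSec sq B₁ hB₁) τ₂ (Rel.fac h𝒳 h𝒴 (hσ₀ B₁ hB₁ _) hτ₂)]
  have hw : Rel w σ₁ τ₂ :=
    Category.comp_id w ▸ (Rel.fac h𝒳 h𝒴 (hw₁ ▸ h₁) hτ₁).comp (hinj _ _ _ e)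
  exact Rel.uniq h𝒳 h𝒴 hw (Rel.fac h𝒳 h𝒴 (hw₂ ▸ h₂) hτ₂)

variable (σ₀) in
/-- Compatibility with the universal section. -/
def Good {A : 𝒯.obj} (σ : Sec sq.bot f A) : Prop :=
  ∀ (B : 𝒯.obj) (t : B ⟶ A) (v : B ⟶ D.A₀) (σB : Sec sq.bot f B), Rel t σB σ → Rel v σB σ₀

theorem good_of_rel {A' A : 𝒯.obj} {u : A' ⟶ A} {σ' : Sec sq.bot f A'} {σ : Sec sq.bot f A}
    (h : Rel u σ' σ) (hσ : Good D σ₀ σ) : Good D σ₀ σ' :=
  fun B _ v σB hB => hσ B _ v σB (hB.comp h)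

include h𝒳 h𝒴 hσ₀ in
theorem good_topSec (A : 𝒯.obj) (hA : Q A) : Good D σ₀ (topSec sq A hA) := fun B t v σB hB =>
  Rel.of_eq (Rel.uniq h𝒳 h𝒴 hB (topSec_rel t (D.down t hA) hA)) (hσ₀ B _ v) rfl

include h𝒳 h𝒴 hf in
theorem good_unique {A : 𝒯.obj} {σ σ' : Sec sq.bot f A} (hσ : Good D σ₀ σ) (hσ' : Good D σ₀ σ') :
    Rel (𝟙 A) σ σ' := by
  obtain ⟨B, t, v, hepi⟩ := D.cover A
  obtain ⟨τ, hτ⟩ := exists_pull h𝒳 h𝒴 t σ
  obtain ⟨τ', hτ'⟩ := exists_pull h𝒳 h𝒴 t σ'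
  obtain ⟨Z, π, P, hπ, hover, hnat, hinj, hsurj⟩ := exists_pA h𝒳 h𝒴 hf sq.bot A
  have hr : Rel (𝟙 B) τ τ' := Rel.uniq h𝒳 h𝒴 (hσ B t v τ hτ) (hσ' B t v τ' hτ')
  refine hinj (𝟙 A) σ σ' ((AlgSp.yon S).map_injective ?_)
  rw [← cancel_epi ((AlgSp.yon S).map (𝒯.p.map t)), ← Functor.map_comp, ← Functor.map_comp,
    ← hnat t (𝟙 A) τ σ hτ, ← hnat t (𝟙 A) τ' σ' hτ']
  have e := hnat (𝟙 B) t τ τ' hr
  rw [Category.id_comp, CategoryTheory.Functor.map_id, Category.id_comp] at e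
  simp only [Category.comp_id, e]

include h𝒳 h𝒴 hf hσ₀ in
theorem good_exists (A : 𝒯.obj) : ∃ σ : Sec sq.bot f A, Good D σ₀ σ := by
  obtain ⟨B, t, v, hepi⟩ := D.cover A
  obtain ⟨σB, hσB⟩ := exists_pull h𝒳 h𝒴 v σ₀
  obtain ⟨Z, π, P, hπ, hover, hnat, hinj, hsurj⟩ := exists_pA h𝒳 h𝒴 hf sq.bot A
  -- descent of the point
  have hdesc : ∃ g : 𝒯.p.obj A ⟶ Z, 𝒯.p.map t ≫ g = P t σB := by
    have sqK := IsPullback.of_hasPullback ((AlgSp.yon S).map (𝒯.p.map t)) ((AlgSp.yon S).map (𝒯.p.map t))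
    obtain ⟨hc⟩ := Groth.L23.nonempty_isColimit_cofork ((AlgSp.yon S).map (𝒯.p.map t)) sqK
    have hk : pullback.fst _ _ ≫ (AlgSp.yon S).map (P t σB) =
        pullback.snd ((AlgSp.yon S).map (𝒯.p.map t)) ((AlgSp.yon S).map (𝒯.p.map t)) ≫ (AlgSp.yon S).map (P t σB) :=
      Groth.L23.hom_ext_yon fun W x => by
        obtain ⟨r₁, hr₁⟩ := (AlgSp.yon S).map_surjective (x ≫ pullback.fst _ _)
        obtain ⟨r₂, hr₂⟩ := (AlgSp.yon S).map_surjective (x ≫ pullback.snd _ _)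
        have hr : r₁ ≫ 𝒯.p.map t = r₂ ≫ 𝒯.p.map t := (AlgSp.yon S).map_injective (by
          rw [Functor.map_comp, Functor.map_comp, hr₁, hr₂, Category.assoc, Category.assoc, pullback.condition])
        obtain ⟨W', hW', w₁, hw₁⟩ := exists_over D.h (rfl : 𝒯.p.obj B = _) r₁
        obtain ⟨w₂, hw₂, hw⟩ := exists_factor D.h (w₁ ≫ t) t (eqToHom hW' ≫ r₂) (by
          rw [Category.assoc, ← hr, Functor.map_comp, hw₁]; simp)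
        obtain ⟨τ₁, hτ₁⟩ := exists_pull h𝒳 h𝒴 w₁ σB
        obtain ⟨τ₂, hτ₂⟩ := exists_pull h𝒳 h𝒴 w₂ σB
        have e := hnat _ (w₁ ≫ t) τ₁ τ₂ (agree D h𝒳 h𝒴 hf hσ₀ (hτ₁.comp hσB) (hτ₂.comp hσB))
        rw [Category.id_comp, CategoryTheory.Functor.map_id, Category.id_comp, hnat w₁ t τ₁ σB hτ₁] at e
        rw [← hw, hnat w₂ t τ₂ σB hτ₂, hw₁, hw₂] at e
        simp only [eqToHom_refl, Category.comp_id, Category.assoc, cancel_epi] at e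
        rw [← Category.assoc, ← Category.assoc, ← hr₁, ← hr₂, ← Functor.map_comp, ← Functor.map_comp, e]
    obtain ⟨g, hg⟩ := (AlgSp.yon S).map_surjective (hc.desc (Cofork.ofπ _ hk))
    refine ⟨g, (AlgSp.yon S).map_injective ?_⟩
    rw [Functor.map_comp, hg]
    exact hc.fac (Cofork.ofπ _ hk) WalkingParallelPair.one
  obtain ⟨g, hg⟩ := hdesc
  have hgπ : g ≫ π = 𝟙 _ := (AlgSp.yon S).map_injective (by
    rw [← cancel_epi ((AlgSp.yon S).map (𝒯.p.map t)), ← Functor.map_comp, ← Functor.map_comp, reassoc_of% hg,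
      hover, Category.comp_id])
  obtain ⟨σ, hσ⟩ := hsurj (𝟙 A) g (hgπ.trans (𝒯.p.map_id _).symm)
  obtain ⟨τ, hτ⟩ := exists_pull h𝒳 h𝒴 t σ
  have hσBσ : Rel t σB σ := by
    have e := hnat t (𝟙 A) τ σ hτ
    rw [Category.comp_id, hσ, hg] at e
    exact Rel.of_eq (hinj _ _ _ e.symm) hτ rfl
  refine ⟨σ, fun B' t' v' σ' hσ' => ?_⟩
  obtain ⟨σ'', hσ''⟩ := exists_pull h𝒳 h𝒴 v' σ₀
  obtain ⟨Z', π', P', hπ', hover', hnat', hinj', hsurj'⟩ := exists_pA h𝒳 h𝒴 hf sq.bot B'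
  suffices e : P' (𝟙 B') σ' = P' (𝟙 B') σ'' from Rel.of_eq (hinj' _ _ _ e) hσ'' rfl
  haveI := hepi
  obtain ⟨T', r, u', hrf, hrp, hrs, hu'⟩ := Groth.L24.Boot.exists_lift_of_epi
    ((AlgSp.yon S).map (𝒯.p.map t)) ((AlgSp.yon S).map (𝒯.p.map t'))
  obtain ⟨u', rfl⟩ := (AlgSp.yon S).map_surjective u'
  rw [← Functor.map_comp, ← Functor.map_comp] at hu'
  have hu : u' ≫ 𝒯.p.map t = r ≫ 𝒯.p.map t' := (AlgSp.yon S).map_injective hu'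
  haveI : Sheaf.IsLocallySurjective ((AlgSp.yon S).map r) := Groth.L23.isLocallySurjective_of_repWith _
    (Groth.L23.repWith_map hrf) (Groth.L23.repWith_map hrp) (Groth.L23.repWith_map hrs)
  obtain ⟨W', hW', w', hw'⟩ := exists_over D.h (rfl : 𝒯.p.obj B' = _) r
  obtain ⟨w, hw₀, hw⟩ := exists_factor D.h (w' ≫ t') t (eqToHom hW' ≫ u') (by
    rw [Category.assoc, hu, Functor.map_comp, hw']; simp)
  obtain ⟨κ, hκ⟩ := exists_pull h𝒳 h𝒴 w' σ'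
  obtain ⟨κ', hκ'⟩ := exists_pull h𝒳 h𝒴 w' σ''
  have hr : Rel (𝟙 W') κ κ' := agree D h𝒳 h𝒴 hf hσ₀
    ((Rel.fac h𝒳 h𝒴 (hw.symm ▸ hκ.comp hσ') hσBσ).comp hσB) (hκ'.comp hσ'')
  have e := hnat' _ w' κ κ' hr
  have e₁ := hnat' w' (𝟙 B') κ σ' hκ
  have e₂ := hnat' w' (𝟙 B') κ' σ'' hκ'
  rw [Category.comp_id] at e₁ e₂
  rw [Category.id_comp, CategoryTheory.Functor.map_id, Category.id_comp, e₁, e₂, hw'] at e
  simp only [eqToHom_refl, Category.comp_id, Category.assoc, cancel_epi] at e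
  apply (AlgSp.yon S).map_injective
  rw [← cancel_epi ((AlgSp.yon S).map r), ← Functor.map_comp, ← Functor.map_comp, e]

include D h𝒳 h𝒴 hf hσ₀ in
theorem hasLift : sq.HasLift := by
  choose σ hσ using good_exists D h𝒳 h𝒴 hf hσ₀
  have hmap : ∀ {A' A : 𝒯.obj} (u : A' ⟶ A), Rel u (σ A') (σ A) := fun {A' A} u => by
    obtain ⟨σ', h'⟩ := exists_pull h𝒳 h𝒴 u (σ A)
    exact Rel.of_eq (good_unique D h𝒳 h𝒴 hf (hσ A') (good_of_rel D h' (hσ A))) h' rfl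
  choose m hm using @hmap
  have hobj : ∀ A, 𝒳.p.obj (σ A).x = 𝒯.p.obj A := fun A =>
    (f.w_obj _).symm.trans ((σ A).hθ.eq.choose.symm.trans (sq.bot.w_obj A))
  have huniq : ∀ {A' A : 𝒯.obj} (u : A' ⟶ A) (m' : (σ A').x ⟶ (σ A).x),
      (σ A').θ.hom ≫ f.map m' = sq.bot.map u ≫ (σ A).θ.hom → m u = m' := fun u m' h =>
    eq_of_map_eq hf h𝒴 _ _ ((cancel_epi _).1 ((hm u).trans h.symm))
  let F : 𝒯.obj ⥤ 𝒳.obj :=
    { obj := fun A => (σ A).x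
      map := fun u => m u
      map_id := fun A => huniq _ _ (by
        rw [show f.map (𝟙 _) = 𝟙 _ from f.toFunctor.map_id _,
          show sq.bot.map (𝟙 A) = 𝟙 _ from sq.bot.toFunctor.map_id _, Category.comp_id, Category.id_comp])
      map_comp := fun {a b c} u u' => huniq _ _ (by
        rw [show f.map (m u ≫ m u') = f.map (m u) ≫ f.map (m u') from f.toFunctor.map_comp _ _,
          show sq.bot.map (u ≫ u') = sq.bot.map u ≫ sq.bot.map u' from sq.bot.toFunctor.map_comp _ _,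
          reassoc_of% (hm u), hm u', Category.assoc]) }
  let fn : 𝒯 ⥤ᵇ 𝒳 :=
    { toFunctor := F
      w := CategoryTheory.Functor.ext hobj fun A' A u => by
        have h := congrArg 𝒴.p.map (hm u)
        obtain ⟨a, ha⟩ := (σ A').hθ.eq
        obtain ⟨b, hb⟩ := (σ A).hθ.eq
        simp only [Functor.map_comp, p_map_map f, p_map_map sq.bot, ha, hb] at h
        have h' := congrArg (fun x => eqToHom ((f.w_obj (σ A').x).symm.trans a.symm) ≫ x ≫ eqToHom (f.w_obj (σ A).x)) h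
        simpa [F] using h' }
  let isoBot : sq.bot ≅ BasedFunctor.comp fn f :=
    mkIso2 (fun A => (σ A).θ) (fun A' A u => (hm u).symm) (fun A => (σ A).hθ)
  have ht : ∀ B : (AlgSt.fullSub 𝒯 Q).obj, ∃ k : (σ B.obj).x ≅ sq.top.obj B,
      OverId k.hom ∧ (σ B.obj).θ.hom ≫ f.map k.hom = (appIso sq.iso B).hom := by
    intro B
    have hg := good_topSec D h𝒳 h𝒴 hσ₀ B.obj B.property
    obtain ⟨k, hk⟩ := good_unique D h𝒳 h𝒴 hf (hσ B.obj) hg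
    obtain ⟨k', hk'⟩ := good_unique D h𝒳 h𝒴 hf hg (hσ B.obj)
    rw [show sq.bot.map (𝟙 B.obj) = 𝟙 _ from sq.bot.toFunctor.map_id _, Category.id_comp] at hk hk'
    have e₁ : k ≫ k' = 𝟙 _ := eq_of_map_eq hf h𝒴 _ _ ((cancel_epi (σ B.obj).θ.hom).1 (by
      rw [show f.map (k ≫ k') = f.map k ≫ f.map k' from f.toFunctor.map_comp _ _, reassoc_of% hk, hk',
        show f.map (𝟙 _) = 𝟙 _ from f.toFunctor.map_id _, Category.comp_id]))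
    have e₂ : k' ≫ k = 𝟙 _ := eq_of_map_eq hf h𝒴 _ _ ((cancel_epi (topSec sq B.obj B.property).θ.hom).1 (by
      rw [show f.map (k' ≫ k) = f.map k' ≫ f.map k from f.toFunctor.map_comp _ _, reassoc_of% hk', hk,
        show f.map (𝟙 _) = 𝟙 _ from f.toFunctor.map_id _, Category.comp_id]))
    have hok : OverId k := by
      have h := congrArg 𝒴.p.map hk
      obtain ⟨a, ha⟩ := (σ B.obj).hθ.eq
      obtain ⟨b, hb⟩ := (topSec sq B.obj B.property).hθ.eq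
      simp only [Functor.map_comp, p_map_map f, ha, hb] at h
      refine OverId.of_eq ((f.w_obj _).symm.trans (a.symm.trans (b.trans (f.w_obj _)))) ?_
      have h' := congrArg (fun x => eqToHom ((f.w_obj (σ B.obj).x).symm.trans a.symm) ≫ x ≫
        eqToHom (f.w_obj (topSec sq B.obj B.property).x)) h
      simpa using h'
    exact ⟨⟨k, k', e₁, e₂⟩, hok, hk⟩
  choose k hk₁ hk₂ using ht
  let isoTop : BasedFunctor.comp (AlgSt.subIncl 𝒯 Q) fn ≅ sq.top :=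
    mkIso2 k (fun B' B u => by
      refine eq_of_map_eq hf h𝒴 _ _ ((cancel_epi (σ B'.obj).θ.hom).1 ?_)
      rw [show ∀ {a b c} (p : a ⟶ b) (q : b ⟶ c), f.map (p ≫ q) = f.map p ≫ f.map q from f.toFunctor.map_comp,
        show ∀ {a b c} (p : a ⟶ b) (q : b ⟶ c), f.map (p ≫ q) = f.map p ≫ f.map q from f.toFunctor.map_comp]
      change (σ B'.obj).θ.hom ≫ f.map (m u.hom) ≫ f.map (k B).hom = _
      rw [reassoc_of% (hm u.hom), hk₂, reassoc_of% (hk₂ B')]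
      exact appIso_naturality sq.iso u) hk₁
  exact ⟨⟨fn, isoTop, isoBot, Groth.Agent.ThetaL.hext fun B => hk₂ B⟩⟩

/-- The section of a dotted arrow. -/
def liftSec (d : sq.Lift) (A : 𝒯.obj) : Sec sq.bot f A where
  x := d.fn.obj A
  θ := appIso d.isoBot A
  hθ := overId_app d.isoBot.hom A

include h𝒳 h𝒴 hf hσ₀ in
theorem good_lift (d : sq.Lift) (A : 𝒯.obj) : Good D σ₀ (liftSec d A) := by
  have hmap : ∀ {A' A : 𝒯.obj} (u : A' ⟶ A), Rel u (liftSec d A') (liftSec d A) := fun u =>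
    ⟨d.fn.map u, (appIso_naturality d.isoBot u).symm⟩
  have hA₀ : Rel (𝟙 _) (liftSec d D.A₀) σ₀ := by
    obtain ⟨Z, π, P, hπ, hover, hnat, hinj, hsurj⟩ := exists_pA h𝒳 h𝒴 hf sq.bot D.A₀
    refine hinj _ _ _ ((D.ext₀ Z π hπ (P D.i₀ (topSec sq D.B₀ D.hB₀)) (hover _ _)).unique
      ⟨(hover _ _).trans (𝒯.p.map_id _), ?_⟩ ⟨(hover _ _).trans (𝒯.p.map_id _), ?_⟩)
    · have h₁ : Rel (𝟙 _) (liftSec d D.B₀) (topSec sq D.B₀ D.hB₀) :=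
        ⟨d.isoTop.hom.toNatTrans.app ⟨D.B₀, D.hB₀⟩, by
          rw [show sq.bot.map (𝟙 D.B₀) = 𝟙 _ from sq.bot.toFunctor.map_id _, Category.id_comp]
          exact Groth.Agent.ThetaL.lift_w_app d ⟨D.B₀, D.hB₀⟩⟩
      have e := hnat (𝟙 _) D.i₀ _ _ h₁
      rw [Category.id_comp, CategoryTheory.Functor.map_id, Category.id_comp] at e
      rw [← hnat D.i₀ (𝟙 _) _ _ (hmap D.i₀), Category.comp_id, e]
    · rw [← hnat D.i₀ (𝟙 _) _ _ (hσ₀ D.B₀ D.hB₀ D.i₀), Category.comp_id]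
  intro B t v σB hB
  refine Rel.of_eq (Rel.uniq h𝒳 h𝒴 hB (hmap t)) ?_ rfl
  exact Category.comp_id v ▸ (hmap v).comp hA₀

include D h𝒳 h𝒴 hf hσ₀ in
theorem uniqLift : sq.UniqLift := fun d d' => by
  have hex : ∀ A, Rel (𝟙 A) (liftSec d A) (liftSec d' A) := fun A =>
    good_unique D h𝒳 h𝒴 hf (good_lift D h𝒳 h𝒴 hf hσ₀ d A) (good_lift D h𝒳 h𝒴 hf hσ₀ d' A)
  choose m hm using hex
  have hm' : ∀ A, d.isoBot.hom.toNatTrans.app A ≫ f.map (m A) = d'.isoBot.hom.toNatTrans.app A := fun A =>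
    (hm A).trans ((congrArg (· ≫ _) (sq.bot.toFunctor.map_id _)).trans (Category.id_comp _))
  let η : d.fn ⟶ d'.fn :=
    { app := m
      naturality := fun A' A u => by
        refine eq_of_map_eq hf h𝒴 _ _ ((cancel_epi (appIso d.isoBot A').hom).1 ?_)
        rw [show ∀ {a b c} (p : a ⟶ b) (q : b ⟶ c), f.map (p ≫ q) = f.map p ≫ f.map q from f.toFunctor.map_comp,
          show ∀ {a b c} (p : a ⟶ b) (q : b ⟶ c), f.map (p ≫ q) = f.map p ≫ f.map q from f.toFunctor.map_comp]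
        change d.isoBot.hom.toNatTrans.app A' ≫ f.map (d.fn.map u) ≫ f.map (m A) =
          d.isoBot.hom.toNatTrans.app A' ≫ f.map (m A') ≫ f.map (d'.fn.map u)
        rw [reassoc_of% (hm' A')]
        have n₁ := appIso_naturality d.isoBot u
        have n₂ := appIso_naturality d'.isoBot u
        change sq.bot.map u ≫ d.isoBot.hom.toNatTrans.app A =
          d.isoBot.hom.toNatTrans.app A' ≫ f.map (d.fn.map u) at n₁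
        change sq.bot.map u ≫ d'.isoBot.hom.toNatTrans.app A =
          d'.isoBot.hom.toNatTrans.app A' ≫ f.map (d'.fn.map u) at n₂
        rw [← reassoc_of% n₁, hm' A, n₂]
      isHomLift' := fun A => by
        obtain ⟨a, ha⟩ := (overId_app d.isoBot.hom A).eq
        obtain ⟨b, hb⟩ := (overId_app d'.isoBot.hom A).eq
        have h := congrArg 𝒴.p.map (hm' A)
        have e : 𝒳.p.obj (d.fn.obj A) = 𝒳.p.obj (d'.fn.obj A) := (d.fn.w_obj A).trans (d'.fn.w_obj A).symm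
        refine (OverId.of_eq e ?_).lift (d.fn.w_obj A)
        have hq : 𝒴.p.map (f.map (m A)) = eqToHom (a.symm.trans b) := by
          rw [← cancel_epi (eqToHom a), ← ha, ← Functor.map_comp, hm' A, hb]
          simp [ha]
        rw [p_map_map f] at hq
        have h' := congrArg (fun x => eqToHom (f.w_obj (d.fn.obj A)).symm ≫ x ≫ eqToHom (f.w_obj (d'.fn.obj A))) hq
        simpa using h' }
  refine ⟨⟨⟨{ hom := η, w_top := ?_, w_bot := Groth.Agent.ThetaL.hext hm' }⟩, fun θ => ?_⟩⟩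
  · refine Groth.Agent.ThetaL.hext fun B => eq_of_map_eq hf h𝒴 _ _ ((cancel_epi (appIso d.isoBot B.obj).hom).1 ?_)
    change d.isoBot.hom.toNatTrans.app B.obj ≫ f.map (m B.obj ≫ d'.isoTop.hom.toNatTrans.app B) = _
    rw [show f.map (m B.obj ≫ d'.isoTop.hom.toNatTrans.app B) =
      f.map (m B.obj) ≫ f.map (d'.isoTop.hom.toNatTrans.app B) from f.toFunctor.map_comp _ _, reassoc_of% (hm' B.obj)]
    exact (Groth.Agent.ThetaL.lift_w_app d' B).trans (Groth.Agent.ThetaL.lift_w_app d B).symm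
  · refine LiftSq.Sq.Lift.hom_ext (Groth.Agent.ThetaL.hext fun A => ?_)
    exact eq_of_map_eq hf h𝒴 _ _ ((cancel_epi (appIso d.isoBot A).hom).1
      ((Groth.Agent.ThetaL.hom_bot_app θ A).trans (hm' A).symm))

end Main

/-- Affine morphisms lift uniquely. -/
theorem liftsUniquely (D : Sys 𝒯 Q) (h𝒳 : FibCat.IsFibGrpd 𝒳.p) (h𝒴 : FibCat.IsFibGrpd 𝒴.p)
    (hf : AlgSt.RepByAlgSpWith (AlgSp.RepWith @IsAffineHom) f) :
    LiftSq.LiftsUniquely (AlgSt.subIncl 𝒯 Q) f := fun sq => by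
  obtain ⟨σ₀, hσ₀⟩ := exists_σ₀ (sq := sq) D h𝒳 h𝒴 hf
  exact ⟨hasLift D h𝒳 h𝒴 hf hσ₀, uniqLift D h𝒳 h𝒴 hf hσ₀⟩

end Groth.L11.ThetaAff
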