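import Groth.Agent.L24.St.Rep
import Groth.Agent.L24.St.Points

/-!
# An affine morphism of categories over schemes, read off on points

For `f : 𝒳 ⟶ 𝒴` representable by affine schemes and an object `y₀` of `𝒴` over `T`, the objects of `𝒳` with an
identification of their image with a pullback of `y₀` are the points of an affine `T`-scheme.
-/

set_option autoImplicit false
set_option backward.isDefEq.respectTransparency false
set_option backward.isDefEq.respectTransparency.types false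

universe w' v' w v u

open CategoryTheory CategoryTheory.Limits AlgebraicGeometry Opposite
open Groth.L24.St

noncomputable section

namespace Groth.L11.ThetaAff

variable {S : Scheme.{u}}

section Slice

variable {𝒲 : BasedCategory.{v, w} (Over S)} {Z T : Over S}

theorem overCat_pmap {U : Over S} {a b : Over U} (h : a ⟶ b) : (FibCat.overCat U).p.map h = h.left := rfl

/-- The point of `Z` attached to an object by a functor into the slice. -/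
def ptOf (Φ : 𝒲 ⥤ᵇ FibCat.overCat Z) (a : 𝒲.obj) : 𝒲.p.obj a ⟶ Z :=
  eqToHom (Φ.w_obj a).symm ≫ (Φ.obj a).hom

theorem ptOf_map (Φ : 𝒲 ⥤ᵇ FibCat.overCat Z) {a' a : 𝒲.obj} (m : a' ⟶ a) :
    𝒲.p.map m ≫ ptOf Φ a = ptOf Φ a' := by
  have h₁ : (Φ.map m).left ≫ (Φ.obj a).hom = (Φ.obj a').hom := Over.w (Φ.map m)
  have h₂ := p_map_map Φ m
  change (Φ.map m).left = _ at h₂
  rw [ptOf, ptOf, ← h₁, h₂]
  simp

theorem ptOf_comp {𝒱 : BasedCategory.{v', w'} (Over S)} (Ψ : 𝒱 ⥤ᵇ 𝒲) (Φ : 𝒲 ⥤ᵇ FibCat.overCat Z) (b : 𝒱.obj) :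
    ptOf (BasedFunctor.comp Ψ Φ) b = eqToHom (Ψ.w_obj b).symm ≫ ptOf Φ (Ψ.obj b) := by
  simp only [ptOf, eqToHom_trans_assoc]; rfl

theorem exists_iso_of_ptOf_eq (Φ : 𝒲 ⥤ᵇ FibCat.overCat Z) [Φ.toFunctor.Full] [Φ.toFunctor.Faithful]
    (a a' : 𝒲.obj) (e : 𝒲.p.obj a = 𝒲.p.obj a') (h : eqToHom e ≫ ptOf Φ a' = ptOf Φ a) :
    ∃ i : a ≅ a', OverId i.hom := by
  let j : Φ.obj a ≅ Φ.obj a' :=
    Over.isoMk (eqToIso ((Φ.w_obj a).trans (e.trans (Φ.w_obj a').symm))) (by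
      have h' := congrArg (eqToHom (Φ.w_obj a) ≫ ·) h
      simpa [ptOf] using h')
  refine ⟨Φ.toFunctor.preimageIso j, OverId.of_eq e ?_⟩
  have h₂ := p_map_map Φ (Φ.toFunctor.preimageIso j).hom
  rw [show Φ.map (Φ.toFunctor.preimageIso j).hom = j.hom from Φ.toFunctor.map_preimage j.hom] at h₂
  change j.hom.left = _ at h₂
  rw [← cancel_epi (eqToHom (Φ.w_obj a)), ← cancel_mono (eqToHom (Φ.w_obj a').symm), Category.assoc, ← h₂]
  simp [j]

end Slice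

variable {𝒳 : BasedCategory.{v, w} (Over S)} {𝒴 : BasedCategory.{v', w'} (Over S)}

/-- The representing affine scheme of a base change, with the functor to its slice. -/
theorem exists_slice {T : Over S} (y : FibCat.overCat T ⥤ᵇ 𝒴) {f : 𝒳 ⥤ᵇ 𝒴}
    (hf : AlgSt.RepByAlgSpWith (AlgSp.RepWith @IsAffineHom) f) :
    ∃ (Z : Over S) (π : Z ⟶ T) (Θ : FibCat.fp y f ⥤ᵇ FibCat.overCat Z), IsAffineHom π.left ∧
      FibCat.IsEquivOver Θ ∧ ∀ a, ptOf Θ a ≫ π = ptOf (FibCat.fpFst y f) a := by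
  obtain ⟨F, e, he, hP⟩ := hf T y
  obtain ⟨hrep, hprop⟩ := hP
  let φ := AlgSt.spMapOfOver (BasedFunctor.comp e (FibCat.fpFst y f))
  have sq := hrep.isPullback (𝟙 ((AlgSp.yon S).obj T))
  have : IsIso (hrep.fst (𝟙 ((AlgSp.yon S).obj T))) := sq.isIso_fst_of_isIso
  let π := hrep.snd (𝟙 ((AlgSp.yon S).obj T))
  let i := inv (hrep.fst (𝟙 ((AlgSp.yon S).obj T)))
  have hi : i ≫ (AlgSp.yon S).map π = φ := by
    rw [IsIso.inv_comp_eq]
    simpa using sq.w.symm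
  obtain ⟨c, hc, -, ⟨η⟩⟩ := exists_inverse he
  refine ⟨_, π, BasedFunctor.comp (BasedFunctor.comp c (AlgSt.ofSpMap i)) (AlgSt.toOverCat _),
    hprop _ _ π sq, isEquivOver_comp (isEquivOver_comp hc (ofSpMap_isEquivOver i)) (toOverCat_isEquivOver _),
    fun a => ?_⟩
  -- the section attached to `a`
  obtain ⟨h₁, h₂⟩ := (overId_app η.hom a).eq
  have e₁ := ptOf_map (FibCat.fpFst y f) (η.hom.toNatTrans.app a)
  rw [h₂] at e₁
  have e₂ : (AlgSt.secHom (BasedFunctor.comp e (FibCat.fpFst y f)) (c.obj a)) =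
      ((i ≫ (AlgSp.yon S).map π).hom.app (op (c.obj a).base) (c.obj a).sec).down := by
    rw [hi]; rfl
  have e₃ : ptOf (BasedFunctor.comp e (FibCat.fpFst y f)) (c.obj a) =
      AlgSt.secHom (BasedFunctor.comp e (FibCat.fpFst y f)) (c.obj a) := rfl
  rw [ptOf_comp] at e₃
  have e₁' : eqToHom h₁ ≫ ptOf (FibCat.fpFst y f) a = ptOf (FibCat.fpFst y f) (e.obj (c.obj a)) := e₁
  have e₄ : ((i ≫ (AlgSp.yon S).map π).hom.app (op (c.obj a).base) (c.obj a).sec).down =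
      ((i.hom.app (op (c.obj a).base) (c.obj a).sec).down ≫ π) := rfl
  change (eqToHom (c.w_obj a).symm ≫ (i.hom.app (op (c.obj a).base) (c.obj a).sec).down) ≫ π = _
  rw [Category.assoc, ← e₄, ← e₂, ← e₃, ← e₁', eqToHom_trans_assoc, eqToHom_trans_assoc, eqToHom_refl,
    Category.id_comp]

/-- Faithfulness on the fibres. -/
theorem eq_of_map_eq {f : 𝒳 ⥤ᵇ 𝒴} (hf : AlgSt.RepByAlgSpWith (AlgSp.RepWith @IsAffineHom) f)
    (h𝒴 : FibCat.IsFibGrpd 𝒴.p) {x' x : 𝒳.obj} (m m' : x' ⟶ x)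
    (hF : f.map m = f.map m') : m = m' := by
  obtain ⟨G, φ, hφ⟩ := exists_overCat_functor h𝒴 (f.obj x) (U := 𝒳.p.obj x) (f.w_obj x)
  obtain ⟨Z, π, Θ, -, hΘ, -⟩ := exists_slice G hf
  obtain ⟨-, _⟩ := eqv_fullFaithful hΘ
  let a : Over (𝒳.p.obj x) := Over.mk (𝒳.p.map m)
  obtain ⟨k, hk, hkf⟩ := exists_iso_factor h𝒴 (G.map (L09.Fib.toTerm a) ≫ φ.hom) (f.map m)
    ((G.w_obj a).trans (f.w_obj x').symm) (by
      obtain ⟨e, he⟩ := hφ.eq
      rw [Functor.map_comp, p_map_map G, p_map_map f, he]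
      simp [a, L09.Fib.toTerm, overCat_pmap])
  let P := fpObj (F := G) (G := f) a x' k hk
  let Q := fpObj (F := G) (G := f) (idObj (𝒳.p.obj x)) x φ hφ
  let α : P ⟶ Q := fpHom (L09.Fib.toTerm a) m hkf.symm
  let β : P ⟶ Q := fpHom (L09.Fib.toTerm a) m' (by rw [← hF]; exact hkf.symm)
  have : α = β := by
    apply Θ.toFunctor.map_injective
    apply Over.OverMorphism.ext
    exact (p_map_map Θ α).trans (p_map_map Θ β).symm
  exact congrArg (fun t => t.hom.snd) this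

/-- Objects of `𝒳` over pullbacks of `y₀` are the points of an affine scheme over `T`. -/
theorem exists_pts {f : 𝒳 ⥤ᵇ 𝒴} (hf : AlgSt.RepByAlgSpWith (AlgSp.RepWith @IsAffineHom) f)
    (h𝒳 : FibCat.IsFibGrpd 𝒳.p) (h𝒴 : FibCat.IsFibGrpd 𝒴.p) {T : Over S} (y₀ : 𝒴.obj) (hy₀ : 𝒴.p.obj y₀ = T) :
    ∃ (Z : Over S) (π : Z ⟶ T)
      (pt : ∀ {y' : 𝒴.obj} (_ : y' ⟶ y₀) (x : 𝒳.obj) (θ : y' ≅ f.obj x), OverId θ.hom → (𝒴.p.obj y' ⟶ Z)),
      IsAffineHom π.left ∧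
      (∀ {y' : 𝒴.obj} (v : y' ⟶ y₀) (x : 𝒳.obj) (θ : y' ≅ f.obj x) (hθ : OverId θ.hom),
        pt v x θ hθ ≫ π = 𝒴.p.map v ≫ eqToHom hy₀) ∧
      (∀ {y'' y' : 𝒴.obj} (w : y'' ⟶ y') (v : y' ⟶ y₀) (x' x : 𝒳.obj) (θ' : y'' ≅ f.obj x') (θ : y' ≅ f.obj x)
        (hθ' : OverId θ'.hom) (hθ : OverId θ.hom) (m : x' ⟶ x), θ'.hom ≫ f.map m = w ≫ θ.hom →
          pt (w ≫ v) x' θ' hθ' = 𝒴.p.map w ≫ pt v x θ hθ) ∧
      (∀ {y' : 𝒴.obj} (v : y' ⟶ y₀) (x x' : 𝒳.obj) (θ : y' ≅ f.obj x) (θ' : y' ≅ f.obj x')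
        (hθ : OverId θ.hom) (hθ' : OverId θ'.hom), pt v x θ hθ = pt v x' θ' hθ' →
          ∃ m : x ≅ x', OverId m.hom ∧ θ.hom ≫ f.map m.hom = θ'.hom) ∧
      (∀ {y' : 𝒴.obj} (v : y' ⟶ y₀) (z : 𝒴.p.obj y' ⟶ Z), z ≫ π = 𝒴.p.map v ≫ eqToHom hy₀ →
        ∃ (x : 𝒳.obj) (θ : y' ≅ f.obj x) (hθ : OverId θ.hom), pt v x θ hθ = z) := by
  obtain ⟨G, φ, hφ⟩ := exists_overCat_functor h𝒴 y₀ hy₀
  obtain ⟨Z, π, Θ, hπ, hΘ, hΘπ⟩ := exists_slice G hf
  obtain ⟨_, _⟩ := eqv_fullFaithful hΘ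
  let av : ∀ {y' : 𝒴.obj}, (y' ⟶ y₀) → Over T := fun v => Over.mk (𝒴.p.map v ≫ eqToHom hy₀)
  have hk : ∀ {y' : 𝒴.obj} (v : y' ⟶ y₀), ∃ k : G.obj (av v) ≅ y', OverId k.hom ∧
      k.hom ≫ v = G.map (L09.Fib.toTerm (av v)) ≫ φ.hom := fun v =>
    exists_iso_factor h𝒴 _ v (G.w_obj _) (by
      obtain ⟨e, he⟩ := hφ.eq
      rw [Functor.map_comp, p_map_map G, he]
      simp [av, L09.Fib.toTerm, overCat_pmap])
  choose k hk₁ hk₂ using @hk
  let obj : ∀ {y' : 𝒴.obj} (_ : y' ⟶ y₀) (x : 𝒳.obj) (θ : y' ≅ f.obj x), OverId θ.hom → (FibCat.fp G f).obj :=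
    fun v x θ hθ => fpObj (av v) x (k v ≪≫ θ) ((hk₁ v).comp hθ)
  refine ⟨Z, π, fun v x θ hθ => ptOf Θ (obj v x θ hθ), hπ, fun v x θ hθ => ?_, ?_, ?_, ?_⟩
  · change ptOf Θ (obj v x θ hθ) ≫ π = _
    rw [hΘπ]
    change eqToHom _ ≫ (av v).hom = _
    simp [av]
  · intro y'' y' w v x' x θ' θ hθ' hθ m hm
    let c : av (w ≫ v) ⟶ av v := Over.homMk (𝒴.p.map w) (by simp [av])
    have hG : G.map c ≫ (k v).hom = (k (w ≫ v)).hom ≫ w := by
      refine ext_of_comp_eq h𝒴 v ?_ ?_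
      · obtain ⟨e₁, he₁⟩ := (hk₁ v).eq
        obtain ⟨e₂, he₂⟩ := (hk₁ (w ≫ v)).eq
        rw [Functor.map_comp, Functor.map_comp, p_map_map G, he₁, he₂]
        simp [c, overCat_pmap]
      · rw [Category.assoc, Category.assoc, hk₂, hk₂, ← Category.assoc, ← Functor.map_comp]
        congr 2
        refine Over.OverMorphism.ext ?_
        rw [Over.comp_left]; simp [c, L09.Fib.toTerm, av]
    let M : obj (w ≫ v) x' θ' hθ' ⟶ obj v x θ hθ := fpHom c m (by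
      change G.map c ≫ (k v).hom ≫ θ.hom = ((k (w ≫ v)).hom ≫ θ'.hom) ≫ f.map m
      rw [Category.assoc, hm, ← Category.assoc, hG, Category.assoc])
    exact (ptOf_map Θ M).symm
  · intro y' v x x' θ θ' hθ hθ' hpt
    obtain ⟨i, hi⟩ := exists_iso_of_ptOf_eq Θ (obj v x θ hθ) (obj v x' θ' hθ') rfl
      ((Category.id_comp _).trans hpt.symm)
    have hfst : OverId i.hom.hom.fst := by
      obtain ⟨e, he⟩ := hi.eq
      exact OverId.of_eq (𝒳 := FibCat.overCat T) e he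
    have h1 : i.hom.hom.fst = 𝟙 (av v) := by
      obtain ⟨e, he⟩ := hfst.eq
      exact Over.OverMorphism.ext he
    have hs : OverId i.hom.hom.snd := overId_of_lift (L09.Fib.fp_snd_lift _ i.hom (hi.lift rfl))
    let m : x ≅ x' :=
      { hom := i.hom.hom.snd
        inv := i.inv.hom.snd
        hom_inv_id := congrArg (fun t => t.hom.snd) i.hom_inv_id
        inv_hom_id := congrArg (fun t => t.hom.snd) i.inv_hom_id }
    refine ⟨m, hs, ?_⟩
    have hw : G.map i.hom.hom.fst ≫ (k v).hom ≫ θ'.hom = ((k v).hom ≫ θ.hom) ≫ f.map i.hom.hom.snd :=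
      i.hom.hom.w
    rw [h1] at hw
    have hw' : (k v).hom ≫ θ'.hom = (k v).hom ≫ θ.hom ≫ f.map i.hom.hom.snd :=
      ((congrArg (· ≫ (k v).hom ≫ θ'.hom) (G.toFunctor.map_id _)).trans (Category.id_comp _)).symm.trans
        (hw.trans (Category.assoc _ _ _))
    exact ((cancel_epi (k v).hom).1 hw').symm
  · intro y' v z hz
    obtain ⟨P, j, hj⟩ := eqv_exists_overId hΘ (Over.mk z)
    obtain ⟨ej, hej⟩ := hj.eq
    let e : (FibCat.fp G f).p.obj P = 𝒴.p.obj y' := (Θ.w_obj P).symm.trans ej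
    have hpt : ptOf Θ P = eqToHom e ≫ z := by
      have h' := ptOf_map (BasedFunctor.id (FibCat.overCat Z)) j.hom
      rw [hej] at h'
      change _ ≫ (eqToHom _ ≫ z) = eqToHom _ ≫ (Θ.obj P).hom at h'
      simp only [eqToHom_refl, Category.id_comp] at h'
      rw [ptOf, ← h', eqToHom_trans_assoc]
    let c : av v ≅ P.obj.fst := Over.isoMk (eqToIso e.symm) (by
      have h' := hΘπ P
      rw [hpt, Category.assoc, hz] at h'
      rw [eqToIso.hom]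
      rw [show ptOf (FibCat.fpFst G f) P = eqToHom (rfl : P.obj.fst.left = P.obj.fst.left) ≫ P.obj.fst.hom from rfl, eqToHom_refl,
        Category.id_comp] at h'
      rw [← h']
      simp [av])
    let θ : y' ≅ f.obj P.obj.snd := (k v).symm ≪≫ G.toFunctor.mapIso c ≪≫ P.obj.iso
    have hc : OverId (𝒳 := FibCat.overCat T) c.hom := OverId.of_eq e.symm rfl
    have hθ : OverId θ.hom := (OverId.inv (hk₁ v)).comp ((hc.map G).comp (fp_overId P))
    refine ⟨P.obj.snd, θ, hθ, ?_⟩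
    let M : obj v P.obj.snd θ hθ ⟶ P := fpHom c.hom (𝟙 _) (by
      change G.map c.hom ≫ P.obj.iso.hom = ((k v).hom ≫ θ.hom) ≫ f.map (𝟙 _)
      rw [show f.map (𝟙 _) = 𝟙 _ from f.toFunctor.map_id _, Category.comp_id]
      simp [θ])
    change ptOf Θ (obj v P.obj.snd θ hθ) = z
    rw [← ptOf_map Θ M, hpt]
    change eqToHom e.symm ≫ eqToHom e ≫ z = z
    simp

end Groth.L11.ThetaAff
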