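import Groth.Agent.L11.ThetaAff.General
import Groth.Agent.L11.ThetaAff.Extend
import Groth.Agent.L24.Tors.QuotEtale
import Groth.Prelude.Def_ThetaS

/-!
# Quotient stacks of affine schemes by flat affine groups and a big invariant open
-/

set_option autoImplicit false
set_option backward.isDefEq.respectTransparency false
set_option backward.isDefEq.respectTransparency.types false

universe u

open CategoryTheory CategoryTheory.Limits MonoidalCategory CartesianMonoidalCategory MonObj AlgebraicGeometry Opposite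
open Groth.L24.St

noncomputable section

namespace Groth.L11.ThetaAff

section Fppf

theorem hasIsos_fppf : Scheme.fppfPrecoverage.{u}.HasIsos := by
  unfold Scheme.fppfPrecoverage
  have : MorphismProperty.ContainsIdentities (@Flat ⊓ @LocallyOfFinitePresentation) :=
    ⟨fun X => ⟨inferInstanceAs (Flat (𝟙 X)), inferInstanceAs (LocallyOfFinitePresentation (𝟙 X))⟩⟩
  infer_instance

attribute [local instance] hasIsos_fppf

variable {S' S : Scheme.{u}} (h : S' ⟶ S) {G : Over S'} [GrpObj G] {X : Over S'} (aX : AlgGrp.Action G X)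

theorem isFibGrpd_overMap : FibCat.IsFibGrpd (Over.map h) :=
  (Groth.L09.Fib.isFibGrpd_iff_comp (Over.map h) (Over.forget S) Groth.L09.Fib.isFibSet_overForget).2
    (Groth.L09.Fib.isFibSet_overForget (U := S')).1

/-! ### Points -/

theorem act_one_pt {Y T : Over S'} (aY : AlgGrp.Action G Y) (y : T ⟶ Y) : lift (1 : T ⟶ G) y ≫ aY.act = y := by
  rw [Hom.one_def, show lift (toUnit T ≫ η[G]) y = lift (toUnit T) y ≫ (η[G] ▷ Y) from (lift_whiskerRight ..).symm,
    Category.assoc, aY.one_act, lift_leftUnitor_hom]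

theorem act_mul_pt {Y T : Over S'} (aY : AlgGrp.Action G Y) (g g' : T ⟶ G) (y : T ⟶ Y) :
    lift (g * g') y ≫ aY.act = lift g (lift g' y ≫ aY.act) ≫ aY.act := by
  rw [Hom.mul_def, ← lift_whiskerRight, Category.assoc, aY.mul_act, lift_lift_associator_hom_assoc,
    lift_whiskerLeft_assoc]

theorem leftMul_pt {Y T : Over S'} (g g' : T ⟶ G) (y : T ⟶ Y) :
    lift g (lift g' y) ≫ (AlgSt.leftMul G Y).act = lift (g * g') y := by
  simp [AlgSt.leftMul, comp_lift, comp_mul]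

/-- Equivariant maps out of a torsor agreeing on a section are equal. -/
theorem eq_of_section (A : AlgSt.QuotObj Scheme.fppfPrecoverage G aX) (s : A.base ⟶ A.P) (hs : s ≫ A.π = 𝟙 _)
    {Y : Over S'} {aY : AlgGrp.Action G Y} (f f' : A.P ⟶ Y) (hf : A.act.act ≫ f = (G ◁ f) ≫ aY.act)
    (hf' : A.act.act ≫ f' = (G ◁ f') ≫ aY.act) (e : s ≫ f = s ≫ f') : f = f' := by
  have hp : IsPullback ((G ◁ s) ≫ A.act.act) (snd G A.base) A.π (s ≫ A.π) :=
    (AlgSt.isPullback_whiskerLeft s).paste_horiz A.cart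
  rw [hs] at hp
  haveI : IsIso ((G ◁ s) ≫ A.act.act) := hp.isIso_fst_of_isIso
  rw [← cancel_epi ((G ◁ s) ≫ A.act.act), Category.assoc, Category.assoc, hf, hf',
    ← MonoidalCategory.whiskerLeft_comp_assoc, e, MonoidalCategory.whiskerLeft_comp_assoc]

/-! ### Trivial torsors -/

/-- The trivial torsor with a point of `X`. -/
def triv (T : Over S') (x : T ⟶ X) : AlgSt.QuotObj Scheme.fppfPrecoverage G aX :=
  (AlgSt.quotMap Scheme.fppfPrecoverage G aX).obj ⟨T, ⟨x⟩⟩

/-- Functoriality of trivial torsors. -/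
def trivMap {T' T : Over S'} (f : T' ⟶ T) (x : T ⟶ X) (x' : T' ⟶ X) (e : f ≫ x = x') :
    triv aX T' x' ⟶ triv aX T x :=
  (AlgSt.quotMap Scheme.fppfPrecoverage G aX).map ⟨f, congrArg ULift.up e⟩

@[simp] theorem triv_φ (T : Over S') (x : T ⟶ X) : (triv aX T x).φ = (G ◁ x) ≫ aX.act := rfl

@[simp] theorem trivMap_base {T' T : Over S'} (f : T' ⟶ T) (x : T ⟶ X) (x' : T' ⟶ X) (e : f ≫ x = x') :
    (trivMap aX f x x' e).base = f := rfl

@[simp] theorem trivMap_top {T' T : Over S'} (f : T' ⟶ T) (x : T ⟶ X) (x' : T' ⟶ X) (e : f ≫ x = x') :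
    (trivMap aX f x x' e).top = G ◁ f := rfl

/-- A torsor is covered by the trivial torsor on itself. -/
def coverHom (A : AlgSt.QuotObj Scheme.fppfPrecoverage G aX) : triv aX A.P A.φ ⟶ A where
  base := A.π
  top := A.act.act
  eqv := by
    have e : (AlgSt.leftMul G A.P).act = (α_ G G A.P).inv ≫ (μ[G] ▷ A.P) := by
      have hμ : fst (G ⊗ G) A.P ≫ μ[G] = (fst _ _ ≫ fst G G) * (fst _ _ ≫ snd G G) := by
        rw [Hom.mul_def, ← comp_lift, lift_fst_snd, Category.comp_id]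
      apply CartesianMonoidalCategory.hom_ext <;> simp [AlgSt.leftMul, comp_mul, hμ]
    change (AlgSt.leftMul G A.P).act ≫ A.act.act = (G ◁ A.act.act) ≫ A.act.act
    rw [e, Category.assoc, A.act.mul_act, Iso.inv_hom_id_assoc]
  cart := A.cart
  wφ := A.eqv

/-- The shear from the torsor of the point `snd` to the torsor of the point `act`. -/
def shearHom : triv aX (G ⊗ X) (snd G X) ⟶ triv aX (G ⊗ X) aX.act where
  base := 𝟙 _
  top := lift (fst G (G ⊗ X) * (snd G (G ⊗ X) ≫ fst G X)⁻¹) (snd G (G ⊗ X))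
  eqv := by
    change (AlgSt.leftMul G (G ⊗ X)).act ≫ (lift (fst G (G ⊗ X) * (snd G (G ⊗ X) ≫ fst G X)⁻¹)
        (snd G (G ⊗ X)) : G ⊗ (G ⊗ X) ⟶ G ⊗ (G ⊗ X)) =
      (G ◁ (lift (fst G (G ⊗ X) * (snd G (G ⊗ X) ≫ fst G X)⁻¹) (snd G (G ⊗ X)) : G ⊗ (G ⊗ X) ⟶ G ⊗ (G ⊗ X))) ≫
        (AlgSt.leftMul G (G ⊗ X)).act
    apply CartesianMonoidalCategory.hom_ext
    · simp [AlgSt.leftMul, comp_lift, comp_mul, GrpObj.comp_inv, _root_.mul_assoc]
    · simp [AlgSt.leftMul, comp_lift, comp_mul, GrpObj.comp_inv]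
  cart := by
    change IsPullback _ (snd G (G ⊗ X)) (snd G (G ⊗ X)) (𝟙 _)
    haveI : IsIso (lift (fst G (G ⊗ X) * (snd G (G ⊗ X) ≫ fst G X)⁻¹) (snd G (G ⊗ X))) := by
      refine ⟨⟨lift (fst G (G ⊗ X) * (snd G (G ⊗ X) ≫ fst G X)) (snd G (G ⊗ X)), ?_, ?_⟩⟩
      · simp only [comp_lift, comp_mul, lift_fst, lift_snd, lift_snd_assoc, inv_mul_cancel_right, lift_fst_snd]
      · simp only [comp_lift, comp_mul, GrpObj.comp_inv, lift_fst, lift_snd, lift_snd_assoc, mul_inv_cancel_right,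
          lift_fst_snd]
    exact IsPullback.of_horiz_isIso ⟨by simp⟩
  wφ := by
    simp only [triv_φ]
    rw [lift_whiskerLeft_assoc, show (G ◁ snd G X) = lift (fst G (G ⊗ X)) (snd G (G ⊗ X) ≫ snd G X) by ext <;> simp]
    have e : snd G (G ⊗ X) ≫ aX.act = lift (snd G (G ⊗ X) ≫ fst G X) (snd G (G ⊗ X) ≫ snd G X) ≫ aX.act := by
      rw [← comp_lift_assoc, lift_fst_snd, Category.id_comp]
    rw [e, ← act_mul_pt]
    simp

theorem shear_pt {T : Over S'} (k : T ⟶ G) (b : T ⟶ X) :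
    lift (1 : T ⟶ G) (lift k b) ≫ lift (fst G (G ⊗ X) * (snd G (G ⊗ X) ≫ fst G X)⁻¹) (snd G (G ⊗ X)) ≫
      (G ◁ aX.act) = lift k⁻¹ (lift k b ≫ aX.act) := by
  apply CartesianMonoidalCategory.hom_ext <;> simp [comp_mul, GrpObj.comp_inv]

variable (V : X.left.Opens) [IsAffineHom G.hom] [Flat G.hom] [LocallyOfFinitePresentation G.hom]

variable {V} in
theorem preimage_φ_triv (hinv : aX.act.left ⁻¹ᵁ V = (snd G X).left ⁻¹ᵁ V) {T : Over S'} (x : T ⟶ X)
    (hx : x.left ⁻¹ᵁ V = ⊤) : (triv aX T x).φ.left ⁻¹ᵁ V = ⊤ := by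
  rw [triv_φ, Over.comp_left, Scheme.Hom.comp_preimage]
  change (G ◁ x).left ⁻¹ᵁ (aX.act.left ⁻¹ᵁ V) = ⊤
  rw [hinv, ← Scheme.Hom.comp_preimage, ← Over.comp_left, whiskerLeft_snd, Over.comp_left,
    Scheme.Hom.comp_preimage, hx]
  rfl

open Groth.L24.Tors in
theorem torsor_fppf (A : AlgSt.QuotObj Scheme.fppfPrecoverage G aX) :
    Flat A.π.left ∧ LocallyOfFinitePresentation A.π.left ∧ Surjective A.π.left := by
  refine ⟨?_, ?_, surjective_torsor aX le_rfl A⟩
  · have hP := prop_torsor ((toSpQuot Scheme.fppfPrecoverage G aX).obj A) (AlgSp.IsAlgSpace.yon_obj _)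
      (isAlgSpace_schSp G) (AlgSp.LocP @Flat) (pBase_locP Groth.L23.etLocal_flat)
      (isLocalOnBase_fppf_locP Groth.L23.etLocal_flat) (locP_schSp_hom Groth.L23.etLocal_flat inferInstance)
    exact hP (𝟙 _) (𝟙 _) A.π (Groth.L23.repWith_of_isIso _) (Groth.L23.repWith_of_isIso _)
      ((Category.id_comp _).trans (Category.comp_id _).symm)
  · have hP := prop_torsor ((toSpQuot Scheme.fppfPrecoverage G aX).obj A) (AlgSp.IsAlgSpace.yon_obj _)
      (isAlgSpace_schSp G) (AlgSp.LocP @LocallyOfFinitePresentation) (pBase_locP Groth.L23.etLocal_lfp)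
      (isLocalOnBase_fppf_locP Groth.L23.etLocal_lfp) (locP_schSp_hom Groth.L23.etLocal_lfp inferInstance)
    exact hP (𝟙 _) (𝟙 _) A.π (Groth.L23.repWith_of_isIso _) (Groth.L23.repWith_of_isIso _)
      ((Category.id_comp _).trans (Category.comp_id _).symm)

variable {Q : (AlgSt.QuotSt Scheme.fppfPrecoverage G aX).obj → Prop}

/-- The system of a quotient stack with a big invariant open. -/
def quotSys (hQ : ∀ A, Q A ↔ A.φ.left ⁻¹ᵁ V = ⊤)
    (hinv : aX.act.left ⁻¹ᵁ V = (snd G X).left ⁻¹ᵁ V) [IsAffine X.left]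
    (hbij : Function.Bijective V.ι.appTop) [IsAffine (G ⊗ X).left]
    (hinj : Function.Injective ((snd G X).left ⁻¹ᵁ V).ι.appTop) :
    Sys (ThetaS.overS h (AlgSt.QuotSt Scheme.fppfPrecoverage G aX)) Q where
  h := Groth.L09.Fib.isFibGrpd_comp _ _ Groth.L24.Tors.isStack_quotSt_fppf.1 (isFibGrpd_overMap h)
  down := fun {B A} u hA => by
    rw [hQ] at hA ⊢
    rw [← u.wφ, Over.comp_left, Scheme.Hom.comp_preimage, hA]
    rfl
  A₀ := triv aX X (𝟙 X)
  B₀ := triv aX (Over.mk (V.ι ≫ X.hom)) (Over.homMk V.ι)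
  i₀ := trivMap aX (Over.homMk V.ι) _ _ (Category.comp_id _)
  hB₀ := (hQ _).2 (preimage_φ_triv aX hinv _ V.ι_preimage_self)
  fac := fun {B} v hB => by
    rw [hQ, ← v.wφ] at hB
    have hb : v.base.left ⁻¹ᵁ V = ⊤ := by
      haveI : Surjective B.π.left := Groth.L24.Tors.surjective_torsor aX le_rfl B
      have e : (v.top.left ≫ (snd G X).left) ⁻¹ᵁ V = ⊤ := by
        rw [Scheme.Hom.comp_preimage, ← hinv, ← Scheme.Hom.comp_preimage]
        rwa [Over.comp_left, show (triv aX X (𝟙 X)).φ = aX.act by simp, Scheme.Hom.comp_preimage] at hB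
      rw [← Over.comp_left, show v.top ≫ snd G X = B.π ≫ v.base from v.cart.w] at e
      refine TopologicalSpace.Opens.ext (Set.eq_univ_of_forall fun t => ?_)
      obtain ⟨p, rfl⟩ := B.π.left.surjective t
      exact (SetLike.ext_iff.1 e p).2 trivial
    have hr : Set.range v.base.left ⊆ Set.range V.ι := by
      rintro _ ⟨t, rfl⟩
      rw [V.range_ι]
      exact (SetLike.ext_iff.1 hb t).2 trivial
    let b : B.base ⟶ Over.mk (V.ι ≫ X.hom) := Over.homMk (IsOpenImmersion.lift V.ι v.base.left hr) (by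
      simp only [Over.mk_hom, IsOpenImmersion.lift_fac_assoc]; exact Over.w v.base)
    have hb' : b ≫ Over.homMk V.ι = v.base := Over.OverMorphism.ext (IsOpenImmersion.lift_fac _ _ _)
    obtain ⟨w, -, hw⟩ := exists_factor
      (Groth.L24.Tors.isStack_quotSt_fppf (aX := aX)).1 v
      (trivMap aX (Over.homMk V.ι : Over.mk (V.ι ≫ X.hom) ⟶ X) _ _ (Category.comp_id _)) b hb'
    exact ⟨w, hw⟩
  ext₀ := fun Z π hπ z hz => by
    haveI : IsAffineHom (π.left : Z.left ⟶ X.left) := hπ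
    have hz' : (z.left : (V : Scheme) ⟶ Z.left) ≫ (π.left : Z.left ⟶ X.left) = V.ι :=
      congrArg (fun t => t.left) hz
    obtain ⟨g, ⟨hg₁, hg₂⟩, hu⟩ := existsUnique_extend V hbij (π.left : Z.left ⟶ X.left) z.left hz'
    refine ⟨Over.homMk g ?_, ⟨Over.OverMorphism.ext hg₁, Over.OverMorphism.ext hg₂⟩, fun g' hg' =>
      Over.OverMorphism.ext (hu g'.left ⟨congrArg (fun t => t.left) hg'.1, congrArg (fun t => t.left) hg'.2⟩)⟩
    rw [← Over.w π, reassoc_of% hg₁]
  cover := fun A => by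
    refine ⟨triv aX A.P A.φ, coverHom aX A, trivMap aX A.φ _ _ (Category.comp_id _), ?_⟩
    obtain ⟨h₁, h₂, h₃⟩ := torsor_fppf aX A
    have : Sheaf.IsLocallySurjective ((AlgSp.yon S).map ((Over.map h).map A.π)) :=
      Groth.L23.isLocallySurjective_of_repWith _ (Groth.L23.repWith_map (show Flat ((Over.map h).map A.π).left from h₁))
        (Groth.L23.repWith_map (show LocallyOfFinitePresentation ((Over.map h).map A.π).left from h₂))
        (Groth.L23.repWith_map (show Surjective ((Over.map h).map A.π).left from h₃))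
    change Epi ((AlgSp.yon S).map ((Over.map h).map A.π))
    infer_instance
  pair := fun {B} v₁ v₂ => by
    let c₁ : triv aX (G ⊗ X) (snd G X) ⟶ triv aX X (𝟙 X) := trivMap aX (snd G X) _ _ (Category.comp_id _)
    let c₂ : triv aX (G ⊗ X) (snd G X) ⟶ triv aX X (𝟙 X) :=
      shearHom aX ≫ trivMap aX aX.act _ _ (Category.comp_id _)
    -- the unit section pulled back by `v₁`
    have hc : IsPullback v₁.top B.π (snd G X) v₁.base := v₁.cart
    let s : B.base ⟶ B.P := hc.lift (lift 1 v₁.base) (𝟙 _) (by simp)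
    have hs₁ : s ≫ v₁.top = lift (1 : B.base ⟶ G) v₁.base := hc.lift_fst _ _ _
    have hs₂ : s ≫ B.π = 𝟙 _ := hc.lift_snd _ _ _
    let e : B.base ⟶ G := s ≫ v₂.top ≫ fst G X
    have hse : s ≫ v₂.top = lift e v₂.base := by
      apply CartesianMonoidalCategory.hom_ext
      · exact (Category.assoc _ _ _).trans (lift_fst e v₂.base).symm
      · refine Eq.trans ?_ (lift_snd e v₂.base).symm
        rw [Category.assoc, show v₂.top ≫ snd G X = B.π ≫ v₂.base from v₂.cart.w, reassoc_of% hs₂]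
    have hφ : lift e v₂.base ≫ aX.act = v₁.base := by
      have q₁ : v₁.top ≫ aX.act = B.φ := (congrArg (v₁.top ≫ ·) (show (triv aX X (𝟙 X)).φ = aX.act by simp)).symm.trans v₁.wφ
      have q₂ : v₂.top ≫ aX.act = B.φ := (congrArg (v₂.top ≫ ·) (show (triv aX X (𝟙 X)).φ = aX.act by simp)).symm.trans v₂.wφ
      rw [← hse, Category.assoc, q₂, ← q₁, reassoc_of% hs₁, act_one_pt]
    have hk : lift e⁻¹ v₁.base ≫ aX.act = v₂.base := by
      rw [← hφ, ← act_mul_pt, inv_mul_cancel, act_one_pt]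
    obtain ⟨w, hw₀, hw⟩ := exists_factor (Groth.L24.Tors.isStack_quotSt_fppf (aX := aX)).1 v₁ c₁ (lift e⁻¹ v₁.base)
      (show lift e⁻¹ v₁.base ≫ snd G X = v₁.base from lift_snd _ _)
    change w.base = lift e⁻¹ v₁.base at hw₀
    have hsw : s ≫ w.top = lift (1 : B.base ⟶ G) (lift e⁻¹ v₁.base) := by
      apply CartesianMonoidalCategory.hom_ext
      · have := congrArg (fun t => s ≫ t.top ≫ fst G X) hw
        simp only [AlgSt.QuotObj.comp_top, Category.assoc, c₁, trivMap_top, whiskerLeft_fst] at this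
        refine Eq.trans ?_ (lift_fst 1 (lift e⁻¹ v₁.base)).symm
        rw [Category.assoc]
        exact this.trans ((reassoc_of% hs₁) (fst G X) |>.trans (lift_fst _ _))
      · refine Eq.trans ?_ (lift_snd 1 (lift e⁻¹ v₁.base)).symm
        rw [Category.assoc, show w.top ≫ snd G (G ⊗ X) = B.π ≫ w.base from w.cart.w, reassoc_of% hs₂,
          hw₀]
    refine ⟨_, w, c₁, c₂, hw, ?_, triv aX (Over.mk (((snd G X).left ⁻¹ᵁ V).ι ≫ (G ⊗ X).hom))
      (Over.homMk (((snd G X).left ⁻¹ᵁ V).ι) ≫ snd G X),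
      trivMap aX (Over.homMk (((snd G X).left ⁻¹ᵁ V).ι)) _ _ rfl, ?_, ?_⟩
    · refine AlgSt.QuotObj.hom_ext ?_ (eq_of_section aX B s hs₂ _ _ (w ≫ c₂).eqv v₂.eqv ?_)
      · change w.base ≫ 𝟙 _ ≫ aX.act = v₂.base
        rw [hw₀, Category.id_comp, hk]
      · rw [hse]
        change s ≫ w.top ≫ (lift (fst G (G ⊗ X) * (snd G (G ⊗ X) ≫ fst G X)⁻¹) (snd G (G ⊗ X)) :
          G ⊗ (G ⊗ X) ⟶ G ⊗ (G ⊗ X)) ≫ (G ◁ aX.act) = (lift e v₂.base : B.base ⟶ G ⊗ X)
        rw [reassoc_of% hsw]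
        exact (shear_pt aX e⁻¹ v₁.base).trans (by rw [inv_inv, hk])
    · exact (hQ _).2 (preimage_φ_triv aX hinv _ (by
        rw [Over.comp_left, Scheme.Hom.comp_preimage]
        exact Scheme.Opens.ι_preimage_self _))
    · intro Z π hπ g g' _ _ hgg
      haveI : IsAffineHom (π.left : Z.left ⟶ (G ⊗ X).left) := hπ
      exact Over.OverMorphism.ext (eq_of_injective _ hinj (π.left : Z.left ⟶ (G ⊗ X).left) _ _
        (congrArg (fun t => t.left) hgg))

end Fppf

end Groth.L11.ThetaAff
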